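import Groth.Agent.CBC.Stage
import Groth.Agent.Cube.Universal
import Groth.Agent.Cube.SeesawAlg
import Groth.Agent.GITLib.RigidGroup
import Groth.Agent.Props.QFP
import Groth.Agent.FlatSect.Basic

/-!
# `O = f_*O` for proper flat morphisms with geometrically reduced and connected fibres, over any base

* `exists_flat_model`: proper flat finite presentation over `Spec A` comes from a Noetherian ring.
* `app_bijective`: the functions upstairs are the functions downstairs.
-/

set_option autoImplicit false
set_option backward.isDefEq.respectTransparency false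
set_option backward.isDefEq.respectTransparency.types false

universe u

open CategoryTheory CategoryTheory.Limits AlgebraicGeometry TopologicalSpace Opposite

noncomputable section

namespace Groth.Agent.UnitsThick.PushO

open Groth.Agent.CBC (incl exists_flat_stage isFlatOverAt_congr_iso)

/-- Flatness of the structure module is flatness of the morphism. -/
theorem flat_of_isFlatOver_unit {X S : Scheme.{u}} (f : X ⟶ S)
    (h : FlatMod.IsFlatOver f (Coh.structureModule X)) : Flat f := by
  haveI := ProjTwist.isQuasicoherent_structureModule X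
  rw [HasRingHomProperty.iff_appLE (P := @Flat)]
  intro V U e
  letI := (f.appLE V.1 U.1 e).hom.toAlgebra
  have h1 := FlatSect.flat_sections_of_isFlatOverAt f V.2 U.2 e (F := Coh.structureModule X) fun x _ => h x
  exact h1

/-- The structure sheaf is finitely presented. -/
theorem isFP_unit (X : Scheme.{u}) : CohB1.IsFP (Coh.structureModule X) := by
  haveI := ProjTwist.isQuasicoherent_structureModule X
  refine (Props.QFP.isFP_iff _).2 fun U _ => ?_
  exact inferInstanceAs (Module.FinitePresentation Γ(X, U) Γ(X, U))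

/-- A flat morphism makes the structure sheaf flat over the base. -/
theorem isFlatOver_unit {X S : Scheme.{u}} (f : X ⟶ S) [Flat f] :
    FlatMod.IsFlatOver f (Coh.structureModule X) := by
  haveI := ProjTwist.isQuasicoherent_structureModule X
  intro x
  obtain ⟨V, hV, hxV, -⟩ := exists_isAffineOpen_mem_and_subset (U := (⊤ : S.Opens)) (x := f x) trivial
  obtain ⟨U, hU, hxU, hUV⟩ := exists_isAffineOpen_mem_and_subset (U := f ⁻¹ᵁ V) (x := x) hxV
  let e : U ≤ f ⁻¹ᵁ V := fun z hz => hUV hz
  refine FlatSect.isFlatOverAt_of_flat_sections f hV hU e _ ?_ x hxU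
  exact f.flat_appLE hV hU e

/-- Proper flat finite presentation morphisms come from a Noetherian base. -/
theorem exists_flat_model {A : Type u} [CommRing A] {X : Scheme.{u}} (u : X ⟶ Spec (CommRingCat.of A))
    [IsProper u] [LocallyOfFinitePresentation u] [Flat u] :
    ∃ (A₀ : Subalgebra ℤ A) (X₀ : Scheme.{u}) (u₀ : X₀ ⟶ Spec (CommRingCat.of A₀)) (q : X ⟶ X₀),
      A₀.FG ∧ IsProper u₀ ∧ Flat u₀ ∧
        IsPullback q u u₀ (Spec.map (CommRingCat.ofHom A₀.val.toRingHom)) := by
  classical
  let D := LimLib.fgDiagram ℤ A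
  let c := LimLib.fgCone ℤ A
  have hc : IsLimit c := LimLib.isLimitFgCone ℤ A
  have : CompactSpace X := QuasiCompact.compactSpace_of_compactSpace u
  have : QuasiSeparatedSpace X := quasiSeparatedSpace_of_quasiSeparated u
  obtain ⟨k, Xk, uk, g, h₁, h₂, h₃, sq⟩ := @LimLib.hasModel _ _ _ _ _ hc _ _ _ X u ‹LocallyOfFinitePresentation u› ‹_› ‹_›
  obtain ⟨m, φ, hm⟩ := LimLib.descends_isProper D c hc (fun _ _ _ => inferInstance)
    (fun _ => inferInstance) (fun _ => inferInstance) k Xk uk h₂ h₃ inferInstance X g u sq ‹_›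
  obtain ⟨a₁, a₂, a₃, sqm⟩ := LimLib.HasModel.at_finer (c := c) (f := (u : X ⟶ c.pt)) h₁ h₂ h₃ sq φ
  let A₁ : Subalgebra ℤ A := Algebra.adjoin ℤ (m.unop : Set A)
  have hA₁ : A₁.FG := ⟨m.unop, rfl⟩
  let u₁ : pullback uk (D.map φ) ⟶ Spec (CommRingCat.of A₁) := pullback.snd uk (D.map φ)
  haveI : IsProper u₁ := hm
  haveI : LocallyOfFinitePresentation u₁ := a₁
  let q₁ : X ⟶ pullback uk (D.map φ) := pullback.lift g (u ≫ c.π.app m) (by
    rw [sq.w, Category.assoc]; congr 1; exact (c.w φ).symm)
  have H₁ : IsPullback q₁ u u₁ (Spec.map (CommRingCat.ofHom A₁.val.toRingHom)) := sqm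
  haveI := ProjTwist.isQuasicoherent_structureModule (pullback uk (D.map φ))
  have hfl₁ : FlatMod.IsFlatOver u ((Scheme.Modules.pullback q₁).obj (Coh.structureModule _)) :=
    fun x => (isFlatOverAt_congr_iso u (PicLoc.pullbackStructureIso q₁) x).2 (isFlatOver_unit u x)
  obtain ⟨A₂, hA₂, hle, hfl₂⟩ := exists_flat_stage A₁ hA₁ u₁ u q₁ H₁ _ (isFP_unit _) hfl₁
  let T := Spec.map (CommRingCat.ofHom (incl hle))
  let q : X ⟶ pullback u₁ T :=
    pullback.lift q₁ (u ≫ Spec.map (CommRingCat.ofHom A₂.val.toRingHom)) (by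
      rw [H₁.w, Category.assoc, ← Spec.map_comp]
      rfl)
  refine ⟨A₂, _, pullback.snd u₁ T, q, hA₂, inferInstance, flat_of_isFlatOver_unit _ fun x =>
    (isFlatOverAt_congr_iso _ (PicLoc.pullbackStructureIso (pullback.fst u₁ T)) x).1 (hfl₂ x), ?_⟩
  refine IsPullback.of_right (h₁₂ := pullback.fst u₁ T) (v₁₃ := u₁) (h₂₂ := T) ?_
    (pullback.lift_snd _ _ _) (IsPullback.of_hasPullback _ _)
  rw [pullback.lift_fst, ← Spec.map_comp]
  exact H₁

open scoped Groth.Agent.PicLaw in
/-- The locus with only constant functions in the fibres contains an open set around each of its points. -/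
theorem exists_open_rank_one {X Y : Scheme.{u}} (f : X ⟶ Y) [IsProper f] [Flat f] [IsLocallyNoetherian Y]
    (T : Set Y) (hT : ∀ y ∈ T, Module.finrank (Y.residueField y) Γ(f.fiber y, ⊤) = 1) :
    ∃ U : Y.Opens, T ⊆ U ∧ ∀ z ∈ U, Module.finrank (Y.residueField z) Γ(f.fiber z, ⊤) = 1 := by
  haveI : LocallyOfFinitePresentation f := inferInstance
  have hO := PicLoc.isInvertible_structureModule X
  let S₁ : Set Y := {z | CohIII.fiberRank f (Coh.structureModule X) 0 z ≤ 1}
  have hS₁ : IsOpen S₁ := by
    rw [← isClosed_compl_iff]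
    convert Cube.Seesaw.isClosed_le_fiberRank f hO 2 using 1
    ext z
    simp only [S₁, Set.mem_compl_iff, Set.mem_ofPred_eq]
    omega
  have hr : IsOpen (Set.range f) := f.isOpenMap.isOpen_range
  have hrk : ∀ z, CohIII.fiberRank f (Coh.structureModule X) 0 z = Module.finrank (Y.residueField z) Γ(f.fiber z, ⊤) :=
    fun z => Cube.Seesaw.fiberRank_eq_of_iso f z ((PicGrp.cls_eq_one_iff (PicLoc.isInvertible_pullback _ hO)).mp (by
      rw [PicLaw.cls_pullback _ hO, PicLaw.cls_one, map_one]))
  refine ⟨⟨S₁ ∩ Set.range f, hS₁.inter hr⟩, fun y hy => ⟨((hrk y).trans (hT y hy)).le, ?_⟩, fun z hz => ?_⟩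
  · obtain ⟨x⟩ := Cube.Seesaw.nonempty_fiber_of_finrank f y (hT y hy)
    exact ⟨f.fiberι y x, (f.range_fiberι y).subset (Set.mem_range_self x)⟩
  · have hle : CohIII.fiberRank f (Coh.structureModule X) 0 z ≤ 1 := hz.1
    have hne : CohIII.fiberRank f (Coh.structureModule X) 0 z ≠ 0 := fun h0 => by
      obtain ⟨x, hx⟩ : ∃ x, f x = z := hz.2
      obtain ⟨V, hV, hzV, -⟩ := exists_isAffineOpen_mem_and_subset (U := (⊤ : Y.Opens)) (x := z) trivial
      have hC := Cube.Seesaw.isCoh_of_invertible hO
      have : (Coh.structureModule X).IsQuasicoherent := hC.1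
      obtain ⟨D, hD⟩ := CBC.exists_model_win hC (Cube.Seesaw.isFlatOver_of_invertible f hO) Cube.Seesaw.finCoh hV
      obtain ⟨w⟩ := hD 0
      have : Subsingleton (CohIII.fiberH f (Coh.structureModule X) z 0) :=
        (CBC.subsingleton_fiberH_iff hV z hzV D w).mpr h0
      obtain ⟨φ⟩ : Nonempty (CohIII.fiberMod f (Coh.structureModule X) z ≅ Coh.structureModule (f.fiber z)) :=
        (PicGrp.cls_eq_one_iff (PicLoc.isInvertible_pullback _ hO)).mp (by
          rw [PicLaw.cls_pullback _ hO, PicLaw.cls_one, map_one])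
      have hs : Subsingleton Γ(f.fiber z, ⊤) :=
        ((CohLin.hIso φ 0).toAddEquiv.trans (ProperFin.h0Sec (Coh.structureModule (f.fiber z)))).symm.toEquiv.subsingleton
      obtain ⟨w', -⟩ : ∃ w', f.fiberι z w' = x := (f.range_fiberι z).ge hx
      have : Nonempty (⊤ : (f.fiber z).Opens) := ⟨⟨w', trivial⟩⟩
      exact not_subsingleton Γ(f.fiber z, ⊤) hs
    rw [← hrk]; omega

/-- The hypothesis on the geometric fibres. -/
def GeomFib {X S : Scheme.{u}} (f : X ⟶ S) : Prop :=
  ∀ (K : Type u) [Field K] [IsAlgClosed K] (g : Spec (CommRingCat.of K) ⟶ S),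
      IsReduced (pullback f g) ∧ ConnectedSpace ↥(pullback f g)

/-- A proper scheme over a field with reduced connected geometric fibre has one dimensional `H⁰(O)`. -/
theorem finrank_fiber {W Z : Scheme.{u}} (π : W ⟶ Z) [IsProper π] (z : Z) (K : Type u) [Field K] [IsAlgClosed K]
    (q : Spec (CommRingCat.of K) ⟶ Spec (Z.residueField z))
    (h1 : IsReduced (pullback (π.fiberToSpecResidueField z) q))
    (h2 : ConnectedSpace ↥(pullback (π.fiberToSpecResidueField z) q)) :
    Module.finrank (Z.residueField z) Γ(π.fiber z, ⊤) = 1 := by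
  let p := π.fiberToSpecResidueField z
  have : IsProper p := show IsProper (pullback.snd π (Z.fromSpecResidueField z)) from inferInstance
  haveI : IsProper (pullback.snd p q) := MorphismProperty.pullback_snd (P := @IsProper) _ _ inferInstance
  have hb : Function.Bijective p.appTop :=
    AbVarLib.Rigidity.finrank_of_isPushout (AbVarLib.Rigidity.isPushout_appTop (K := Z.residueField z) p q)
      (AbVarLib.Rigidity.isField_gammaSpec (K := Z.residueField z))
      (AbVarLib.Rigidity.isField_gammaSpec (K := K))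
      (GITLib.Rigid.bijective_appTop (pullback.snd p q))
  have hb' : Function.Bijective (algebraMap (Z.residueField z) Γ(π.fiber z, ⊤)) :=
    hb.comp (ConcreteCategory.bijective_of_isIso (Scheme.ΓSpecIso (Z.residueField z)).inv)
  rw [← (LinearEquiv.ofBijective (Algebra.linearMap (Z.residueField z) Γ(π.fiber z, ⊤)) hb').finrank_eq,
    Module.finrank_self]

/-- Transport of the geometric fibre hypothesis along an iso. -/
theorem reduced_connected_of_iso {P Q : Scheme.{u}} (e : P ≅ Q) (h : IsReduced Q ∧ ConnectedSpace Q) :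
    IsReduced P ∧ ConnectedSpace P := by
  have := h.1
  have := h.2
  exact ⟨isReduced_of_isOpenImmersion e.hom,
    (Scheme.homeoOfIso e.symm).surjective.connectedSpace (Scheme.homeoOfIso e.symm).continuous⟩

/-- Over an affine base: functions upstairs are functions downstairs, and this persists. -/
theorem app_bijective_affine {A : Type u} [CommRing A] {X : Scheme.{u}} (u : X ⟶ Spec (CommRingCat.of A))
    [IsProper u] [LocallyOfFinitePresentation u] [Flat u] (h : GeomFib u)
    (U : (Spec (CommRingCat.of A)).Opens) : Function.Bijective (u.app U) := by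
  obtain ⟨A₀, X₀, u₀, q, hfg, hp, hfl, H⟩ := exists_flat_model u
  haveI := hp; haveI := hfl
  haveI : Algebra.FiniteType ℤ A₀ := (Subalgebra.fg_iff_finiteType A₀).mp hfg
  haveI : IsNoetherianRing A₀ := Algebra.FiniteType.isNoetherianRing ℤ A₀
  haveI : IsNoetherianRing (CommRingCat.of A₀) := inferInstanceAs (IsNoetherianRing A₀)
  let m := Spec.map (CommRingCat.ofHom A₀.val.toRingHom)
  have hfib : ∀ z ∈ Set.range m, Module.finrank ((Spec (CommRingCat.of A₀)).residueField z) Γ(u₀.fiber z, ⊤) = 1 := by
    rintro z ⟨x, rfl⟩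
    let K := AlgebraicClosure ((Spec (CommRingCat.of A)).residueField x)
    let b : Spec (CommRingCat.of K) ⟶ Spec ((Spec (CommRingCat.of A)).residueField x) :=
      Spec.map (CommRingCat.ofHom (algebraMap ((Spec (CommRingCat.of A)).residueField x) K))
    let g' := b ≫ (Spec (CommRingCat.of A)).fromSpecResidueField x
    let q' := b ≫ Spec.map (m.residueFieldMap x)
    have he : q' ≫ (Spec (CommRingCat.of A₀)).fromSpecResidueField (m x) = g' ≫ m := by
      simp only [q', g', Category.assoc, Scheme.Hom.SpecMap_residueFieldMap_fromSpecResidueField]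
    have h1 := ((IsPullback.of_hasPullback u g').paste_horiz H)
    rw [← he] at h1
    let c : pullback u g' ⟶ u₀.fiber (m x) := pullback.lift (pullback.fst u g' ≫ q) (pullback.snd u g' ≫ q')
      (by rw [Category.assoc]; exact h1.w)
    have h2 : IsPullback c (pullback.snd u g') (u₀.fiberToSpecResidueField (m x)) q' :=
      IsPullback.of_right (h₁₂ := u₀.fiberι (m x)) (v₁₃ := u₀)
        (h₂₂ := (Spec (CommRingCat.of A₀)).fromSpecResidueField (m x))
        (by simpa only [c, Scheme.Hom.fiberι, pullback.lift_fst] using h1)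
        (pullback.lift_snd _ _ _) (IsPullback.of_hasPullback _ _)
    obtain ⟨r1, r2⟩ := reduced_connected_of_iso h2.isoPullback.symm (h K g')
    exact finrank_fiber u₀ (m x) K q' r1 r2
  obtain ⟨U₀, hU₀, hh⟩ := exists_open_rank_one u₀ (Set.range m) hfib
  exact Cube.Universal.bijective_app u₀ m q u U₀ hh H U fun x _ => hU₀ ⟨x, rfl⟩

/-- `O_S ⟶ f_*O_X` is an isomorphism. -/
theorem isIso_app {X S : Scheme.{u}} (f : X ⟶ S) [IsProper f] [Flat f] [LocallyOfFinitePresentation f]
    (h : GeomFib f) (V : S.Opens) : IsIso (f.app V) := by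
  have hB : ∀ (W : S.affineOpens) (U : S.Opens), U ≤ W.1 → IsIso (f.app U) := by
    intro W U hU
    let j := W.2.fromSpec
    let u := pullback.snd f j
    haveI : IsProper u := MorphismProperty.pullback_snd (P := @IsProper) _ _ inferInstance
    haveI : Flat u := MorphismProperty.pullback_snd (P := @Flat) _ _ inferInstance
    haveI : LocallyOfFinitePresentation u :=
      MorphismProperty.pullback_snd (P := @LocallyOfFinitePresentation) _ _ inferInstance
    have hu : GeomFib u := fun K _ _ g =>
      reduced_connected_of_iso (pullbackLeftPullbackSndIso f j g) (h K (g ≫ j))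
    haveI : IsIso (u.app (j ⁻¹ᵁ U)) :=
      (ConcreteCategory.isIso_iff_bijective _).mpr (app_bijective_affine u hu _)
    haveI : IsIso (j.app U) := by
      refine Scheme.Hom.isIso_app j U (hU.trans ?_)
      rw [W.2.opensRange_fromSpec]
    haveI : IsIso ((pullback.fst f j).app (f ⁻¹ᵁ U)) := by
      refine Scheme.Hom.isIso_app _ _ fun x hx => ?_
      show x ∈ Set.range (pullback.fst f j)
      rw [IsOpenImmersion.range_pullbackFst]
      show f x ∈ Set.range j
      rw [W.2.range_fromSpec]
      exact hU hx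
    have hnat : f.app U ≫ (pullback.fst f j).app (f ⁻¹ᵁ U) =
        (j.app U ≫ u.app (j ⁻¹ᵁ U)) ≫
          (pullback f j).presheaf.map (eqToHom (by simp only [u, ← Scheme.Hom.comp_preimage, pullback.condition])).op := by
      rw [← Scheme.Hom.comp_app, ← Scheme.Hom.comp_app]
      exact Scheme.Hom.congr_app (pullback.condition (f := f) (g := j)) U
    haveI : IsIso (f.app U ≫ (pullback.fst f j).app (f ⁻¹ᵁ U)) := by rw [hnat]; infer_instance
    exact IsIso.of_isIso_comp_right (f.app U) ((pullback.fst f j).app (f ⁻¹ᵁ U))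
  let φ : S.sheaf ⟶ (TopCat.Sheaf.pushforward CommRingCat f.base).obj X.sheaf := ⟨f.c⟩
  have : IsIso φ := TopCat.Sheaf.isIso_iff_isIso_basis (B := fun W : S.affineOpens => W.1)
    (by rw [Subtype.range_coe]; exact S.isBasis_affineOpens) fun W => hB W W.1 le_rfl
  exact inferInstanceAs (IsIso (((sheafToPresheaf _ _).map φ).app (op V)))

end Groth.Agent.UnitsThick.PushO
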