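import Groth.Prelude.Def_UnitsSh
import Groth.Prelude.Def_ClSub2
import Groth.Agent.CohTop.SubStalk
import Groth.Agent.CohTop.Push
import Groth.Agent.DefSchLib.Affine

/-!
# Units sequences of thickenings

* `K i`: the kernel of `O^× ⟶ i_* O^×`.
* `epi_comap`: this map is an epimorphism for a thickening.
* `Step i i' j`: data making `0 → K i' → K i → j_* O → 0` exact (`Step.exists_shortExact`).
-/

set_option autoImplicit false
set_option backward.isDefEq.respectTransparency.types false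

universe u

open CategoryTheory CategoryTheory.Limits AlgebraicGeometry Opposite TopologicalSpace

noncomputable section

namespace Groth.Agent.UnitsThick

open Groth.Agent.CohTop.SubStalk Groth.Agent.CohTop.Vanishing Groth.Agent.CohTop.Basic
open Groth.Agent.DefSchLib (eq_of_affine_pre app_res)

section Sections

variable {X : TopCat.{u}} {F G : CohTop.Ab X} (φ : F ⟶ G) (U : Opens X)

lemma kernel_ι_injective : Function.Injective ((kernel.ι φ).hom.app (op U)).hom := fun a b h => by
  apply (freeHomEquiv (J := Opens.grothendieckTopology X) U (kernel φ)).symm.injective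
  apply (cancel_mono (kernel.ι φ)).1
  rw [freeHomEquiv_symm_comp, freeHomEquiv_symm_comp]
  exact congrArg _ h

lemma exists_kernel_section (s : F.obj.obj (op U)) (h : (φ.hom.app (op U)).hom s = 0) :
    ∃ s' : (kernel φ).obj.obj (op U), ((kernel.ι φ).hom.app (op U)).hom s' = s := by
  let f := (freeHomEquiv (J := Opens.grothendieckTopology X) U F).symm s
  have hf : f ≫ φ = 0 := by
    rw [freeHomEquiv_symm_comp]
    apply (freeHomEquiv (J := Opens.grothendieckTopology X) U G).injective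
    rw [AddEquiv.apply_symm_apply, map_zero]
    exact h
  refine ⟨freeHomEquiv (J := Opens.grothendieckTopology X) U _ (kernel.lift φ f hf), ?_⟩
  rw [← freeHomEquiv_comp, kernel.lift_ι]
  exact AddEquiv.apply_symm_apply _ s

lemma kernel_ι_app_zero (s : (kernel φ).obj.obj (op U)) :
    (φ.hom.app (op U)).hom (((kernel.ι φ).hom.app (op U)).hom s) = 0 := by
  change ((kernel.ι φ ≫ φ).hom.app (op U)).hom s = 0
  rw [kernel.condition]
  rfl

end Sections

variable {X : Scheme.{u}}

/-- The kernel of the units map. -/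
abbrev K {Z : Scheme.{u}} (i : Z ⟶ X) : CohTop.Ab X.toTopCat := kernel (UnitsSh.comap i)

/-- Units on the source, pushed forward. -/
abbrev P {Z : Scheme.{u}} (i : Z ⟶ X) : CohTop.Ab X.toTopCat := (CohTop.push i.base).obj (UnitsSh.unitsAb Z)

/-- The structure sheaf as an abelian sheaf. -/
abbrev O (X : Scheme.{u}) : CohTop.Ab X.toTopCat := Coh.toAb (Coh.structureModule X)

/-- A unit as a ring element. -/
def val {Z : Scheme.{u}} {U : Z.Opens} (s : (UnitsSh.unitsAb Z).obj.obj (op U)) : Γ(Z, U) :=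
  (UnitsSh.unitOfSect s).val

lemma val_zero {Z : Scheme.{u}} {U : Z.Opens} : val (0 : (UnitsSh.unitsAb Z).obj.obj (op U)) = 1 := rfl

lemma val_injective {Z : Scheme.{u}} {U : Z.Opens} : Function.Injective (val (Z := Z) (U := U)) :=
  fun _ _ h => Units.val_injective h

lemma val_rs {Z : Scheme.{u}} {U V : Z.Opens} (h : V ≤ U) (s : (UnitsSh.unitsAb Z).obj.obj (op U)) :
    val (rs (UnitsSh.unitsAb Z) h s) = Z.presheaf.map (homOfLE h).op (val s) := rfl

lemma val_comap {Z : Scheme.{u}} (i : Z ⟶ X) {U : X.Opens} (s : (UnitsSh.unitsAb X).obj.obj (op U)) :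
    val (Z := Z) (U := i ⁻¹ᵁ U) (((UnitsSh.comap i).hom.app (op U)).hom s) = i.app U (val s) := rfl

lemma comap_eq_zero_iff {Z : Scheme.{u}} (i : Z ⟶ X) {U : X.Opens} (s : (UnitsSh.unitsAb X).obj.obj (op U)) :
    ((UnitsSh.comap i).hom.app (op U)).hom s = 0 ↔ i.app U (val s - 1) = 0 := by
  rw [map_sub, map_one, sub_eq_zero, ← val_comap]
  exact ⟨fun h => by rw [h]; rfl, fun h => val_injective (h.trans val_zero.symm)⟩

lemma exists_affine {U : X.Opens} {x : X} (hx : x ∈ U) : ∃ W : X.Opens, IsAffineOpen W ∧ x ∈ W ∧ W ≤ U := by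
  obtain ⟨W, hW, hxW, hWU⟩ := TopologicalSpace.Opens.isBasis_iff_nbhd.1 X.isBasis_affineOpens hx
  exact ⟨W, hW, hxW, hWU⟩

/-- The units map of a thickening is an epimorphism. -/
theorem epi_comap {Z : Scheme.{u}} (i : Z ⟶ X)
    (hsurj : ∀ W : X.Opens, IsAffineOpen W → Function.Surjective (i.app W).hom)
    (hnil : ∀ W : X.Opens, IsAffineOpen W → ∀ a : Γ(X, W), i.app W a = 0 → IsNilpotent a) :
    Epi (UnitsSh.comap i) := by
  refine epi_of_locally _ fun U t x hx => ?_
  obtain ⟨W, hW, hxW, hWU⟩ := exists_affine (X := X) hx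
  let v : (Γ(Z, i ⁻¹ᵁ W))ˣ := UnitsSh.unitOfSect (rs (P i) hWU t)
  obtain ⟨a, ha⟩ := hsurj W hW v.val
  obtain ⟨b, hb⟩ := hsurj W hW v⁻¹.val
  have hn : IsNilpotent (a * b - 1) := hnil W hW _ (by
    rw [map_sub, map_mul, ha, hb, map_one, Units.mul_inv, sub_self])
  have hu : IsUnit (a * b) := by simpa using hn.isUnit_one_add
  have hua : IsUnit a := isUnit_of_mul_isUnit_left hu
  refine ⟨W, hWU, hxW, UnitsSh.sectOfUnit hua.unit, ?_⟩
  apply val_injective (Z := Z) (U := i ⁻¹ᵁ W)
  refine (val_comap i _).trans ?_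
  exact ha

/-- Data for one step of a filtration of a thickening. -/
structure Step {Z Z' Y : Scheme.{u}} (i : Z ⟶ X) (i' : Z' ⟶ X) (j : Y ⟶ X) where
  /-- The new equation. -/
  t : Γ(X, ⊤)
  nil : IsNilpotent t
  gen : ∀ W : X.Opens, IsAffineOpen W → ∀ a : Γ(X, W), i.app W a = 0 →
    ∃ f : Γ(X, W), i'.app W (a - X.presheaf.map (homOfLE le_top).op t * f) = 0
  le : ∀ W : X.Opens, IsAffineOpen W → ∀ a : Γ(X, W), i'.app W a = 0 → i.app W a = 0
  hit : ∀ W : X.Opens, IsAffineOpen W → i.app W (X.presheaf.map (homOfLE le_top).op t) = 0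
  sq : ∀ W : X.Opens, IsAffineOpen W →
    i'.app W (X.presheaf.map (homOfLE le_top).op t * X.presheaf.map (homOfLE le_top).op t) = 0
  colon : ∀ W : X.Opens, IsAffineOpen W → ∀ f : Γ(X, W),
    i'.app W (X.presheaf.map (homOfLE le_top).op t * f) = 0 ↔ j.app W f = 0
  surj : ∀ W : X.Opens, IsAffineOpen W → Function.Surjective (j.app W).hom

namespace Step

variable {Z Z' Y : Scheme.{u}} {i : Z ⟶ X} {i' : Z' ⟶ X} {j : Y ⟶ X} (S : Step i i' j)

/-- The equation on an open. -/
abbrev tU (U : X.Opens) : Γ(X, U) := X.presheaf.map (homOfLE le_top).op S.t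

lemma tU_res {U V : X.Opens} (h : V ≤ U) : X.presheaf.map (homOfLE h).op (S.tU U) = S.tU V :=
  Groth.Agent.DefSchLib.res_res _ _ _ _

lemma app_eq_zero_of_affine {T : Scheme.{u}} (k : T ⟶ X) {U : X.Opens} (a : Γ(X, U))
    (h : ∀ (W : X.Opens) (hW : W ≤ U), IsAffineOpen W → k.app W (X.presheaf.map (homOfLE hW).op a) = 0) :
    k.app U a = 0 :=
  eq_of_affine_pre k fun V => by
    rw [← app_res k V.2, map_zero]
    exact h _ V.2 V.1.2

lemma app_eq_zero_res {T : Scheme.{u}} (k : T ⟶ X) {U W : X.Opens} (hW : W ≤ U) {a : Γ(X, U)}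
    (h : k.app U a = 0) : k.app W (X.presheaf.map (homOfLE hW).op a) = 0 := by
  rw [app_res k hW, h, map_zero]

include S in
lemma le' {U : X.Opens} {a : Γ(X, U)} (h : i'.app U a = 0) : i.app U a = 0 :=
  app_eq_zero_of_affine i a fun W hW hWa => S.le W hWa _ (app_eq_zero_res i' hW h)

lemma hit' (U : X.Opens) : i.app U (S.tU U) = 0 :=
  app_eq_zero_of_affine i _ fun W hW hWa => by rw [S.tU_res]; exact S.hit W hWa

lemma sq' (U : X.Opens) : i'.app U (S.tU U * S.tU U) = 0 :=
  app_eq_zero_of_affine i' _ fun W hW hWa => by rw [map_mul, S.tU_res]; exact S.sq W hWa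

lemma colon' {U : X.Opens} (f : Γ(X, U)) : i'.app U (S.tU U * f) = 0 ↔ j.app U f = 0 := by
  constructor <;> intro h
  · refine app_eq_zero_of_affine j f fun W hW hWa => (S.colon W hWa _).1 ?_
    have := app_eq_zero_res i' hW h
    rwa [map_mul, S.tU_res] at this
  · refine app_eq_zero_of_affine i' _ fun W hW hWa => ?_
    rw [map_mul, S.tU_res]
    exact (S.colon W hWa _).2 (app_eq_zero_res j hW h)

lemma isUnit_one_add {U : X.Opens} (f : Γ(X, U)) : IsUnit (1 + S.tU U * f) :=
  (((Commute.all _ _).isNilpotent_mul_right (S.nil.map _))).isUnit_one_add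

/-- `f ↦ 1 + t f` on the thinner thickening. -/
def vFun (U : X.Opens) (f : Γ(X, U)) : (P i').obj.obj (op U) :=
  UnitsSh.sectOfUnit (Units.map (i'.app U).hom.toMonoidHom (S.isUnit_one_add f).unit)

lemma val_vFun (U : X.Opens) (f : Γ(X, U)) :
    val (Z := Z') (U := i' ⁻¹ᵁ U) (S.vFun U f) = i'.app U (1 + S.tU U * f) := rfl

/-- `f ↦ 1 + t f` as a homomorphism. -/
def vHom (U : X.Opens) : Γ(X, U) →+ (P i').obj.obj (op U) :=
  AddMonoidHom.mk' (S.vFun U) fun f g => by
    apply val_injective (Z := Z') (U := i' ⁻¹ᵁ U)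
    have h := S.sq' U
    change i'.app U (1 + S.tU U * (f + g)) = i'.app U (1 + S.tU U * f) * i'.app U (1 + S.tU U * g)
    rw [← map_mul, ← sub_eq_zero, ← map_sub,
      show 1 + S.tU U * (f + g) - (1 + S.tU U * f) * (1 + S.tU U * g) =
        -(S.tU U * S.tU U * (f * g)) by ring, map_neg, map_mul, h, zero_mul, neg_zero]

/-- `f ↦ 1 + t f` as a map of sheaves. -/
def v : O X ⟶ P i' :=
  ⟨{ app := fun U => AddCommGrpCat.ofHom (S.vHom U.unop)
     naturality := fun {U V} h => by
       refine AddCommGrpCat.ext fun f => ?_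
       apply val_injective (Z := Z') (U := i' ⁻¹ᵁ V.unop)
       let f' : Γ(X, U.unop) := f
       change i'.app V.unop (1 + S.tU V.unop * X.presheaf.map (homOfLE (leOfHom h.unop)).op f') =
         Z'.presheaf.map (homOfLE (i'.preimage_mono (leOfHom h.unop))).op
           (i'.app U.unop (1 + S.tU U.unop * f'))
       rw [← app_res i' (leOfHom h.unop), map_add (X.presheaf.map _).hom, map_mul (X.presheaf.map _).hom, map_one (X.presheaf.map _).hom, S.tU_res] }⟩

lemma val_v {U : X.Opens} (f : (O X).obj.obj (op U)) :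
    val (Z := Z') (U := i' ⁻¹ᵁ U) ((S.v.hom.app (op U)).hom f) = i'.app U (1 + S.tU U * (show Γ(X, U) from f)) := rfl

/-- The map to compare with. -/
def m (_S : Step i i' j) : K i ⟶ P i' := kernel.ι (UnitsSh.comap i) ≫ UnitsSh.comap i'

/-- The map `O ⟶ j_* O`. -/
def q (_S : Step i i' j) : O X ⟶ (CohTop.push j.base).obj (O Y) :=
  (SheafOfModules.toSheaf X.ringCatSheaf).map (ClSub.unitToPush j)

lemma q_app {U : X.Opens} (f : Γ(X, U)) : ((S.q.hom.app (op U)).hom f : Γ(Y, j ⁻¹ᵁ U)) = j.app U f := rfl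

include S in
lemma epi_q : Epi S.q := by
  refine epi_of_locally _ fun U s x hx => ?_
  obtain ⟨W, hW, hxW, hWU⟩ := exists_affine (X := X) hx
  obtain ⟨a, ha⟩ := S.surj W hW (rs ((CohTop.push j.base).obj (O Y)) hWU s)
  exact ⟨W, hWU, hxW, a, ha⟩

lemma exists_lift_v {U : X.Opens} (f : Γ(X, U)) :
    ∃ s : (K i).obj.obj (op U), (S.m.hom.app (op U)).hom s = (S.v.hom.app (op U)).hom f := by
  obtain ⟨s, hs⟩ := exists_kernel_section (UnitsSh.comap i) U (UnitsSh.sectOfUnit (S.isUnit_one_add f).unit) (by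
    rw [comap_eq_zero_iff]
    change i.app U (1 + S.tU U * f - 1) = 0
    rw [add_sub_cancel_left, map_mul, S.hit', zero_mul])
  refine ⟨s, ?_⟩
  change ((UnitsSh.comap i').hom.app (op U)).hom (((kernel.ι (UnitsSh.comap i)).hom.app (op U)).hom s) = _
  rw [hs]
  rfl

lemma exists_lift_m {U : X.Opens} (hU : IsAffineOpen U) (s : (K i).obj.obj (op U)) :
    ∃ f : Γ(X, U), (S.v.hom.app (op U)).hom f = (S.m.hom.app (op U)).hom s := by
  let s₀ := ((kernel.ι (UnitsSh.comap i)).hom.app (op U)).hom s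
  have h1 := (comap_eq_zero_iff i s₀).1 (kernel_ι_app_zero _ _ s)
  obtain ⟨f, hf⟩ := S.gen U hU _ h1
  refine ⟨f, val_injective (Z := Z') (U := i' ⁻¹ᵁ U) ?_⟩
  change i'.app U (1 + S.tU U * f) = i'.app U (val s₀)
  rw [eq_comm, ← sub_eq_zero, ← map_sub, ← hf]
  congr 1
  ring

include S in
/-- `0 → K i' → K i → j_* O → 0` is exact. -/
theorem exists_shortExact :
    ∃ (f : K i' ⟶ K i) (g : K i ⟶ (CohTop.push j.base).obj (O Y)) (w : f ≫ g = 0),
      (ShortComplex.mk f g w).ShortExact := by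
  let a : K i' ⟶ K i := kernel.lift (UnitsSh.comap i) (kernel.ι (UnitsSh.comap i')) (by
    apply Sheaf.hom_ext
    ext U s
    refine (comap_eq_zero_iff i (U := U.unop) _).2 (S.le' ?_)
    exact (comap_eq_zero_iff i' _).1 (kernel_ι_app_zero _ _ s))
  have ha : a ≫ kernel.ι (UnitsSh.comap i) = kernel.ι (UnitsSh.comap i') := kernel.lift_ι _ _ _
  haveI : Mono a := mono_of_mono_fac ha
  have hw : S.v ≫ cokernel.π S.m = 0 := by
    apply Sheaf.hom_ext
    ext U f
    obtain ⟨s, hs⟩ := S.exists_lift_v (U := U.unop) f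
    change ((cokernel.π S.m).hom.app U).hom ((S.v.hom.app U).hom f) = 0
    rw [show (S.v.hom.app U).hom f = (S.m.hom.app U).hom s from hs.symm]
    change ((S.m ≫ cokernel.π S.m).hom.app U).hom s = 0
    rw [cokernel.condition]
    rfl
  let v' : O X ⟶ Abelian.image S.m := kernel.lift _ S.v hw
  have hv' : v' ≫ kernel.ι (cokernel.π S.m) = S.v := kernel.lift_ι _ _ _
  haveI : Epi v' := by
    refine epi_of_locally _ fun U c x hx => ?_
    obtain ⟨W₁, hW₁, ⟨s, hs⟩, hxW₁⟩ := ((TopCat.Presheaf.isLocallySurjective_iff _).1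
      ((CategoryTheory.Sheaf.isLocallySurjective_iff_epi' AddCommGrpCat.{u} (Abelian.factorThruImage S.m)).2
        inferInstance)) U c x hx
    obtain ⟨W, hW, hxW, hWW₁⟩ := exists_affine (X := X) hxW₁
    obtain ⟨f, hf⟩ := S.exists_lift_m hW (rs (K i) hWW₁ s)
    refine ⟨W, hWW₁.trans hW₁, hxW, f, kernel_ι_injective _ _ ?_⟩
    change ((v' ≫ kernel.ι (cokernel.π S.m)).hom.app (op W)).hom f = _
    rw [hv', hf]
    conv_lhs => rw [show S.m = Abelian.factorThruImage S.m ≫ kernel.ι (cokernel.π S.m) from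
      (Abelian.image.fac S.m).symm]
    refine congrArg ((kernel.ι (cokernel.π S.m)).hom.app (op W)).hom ?_
    exact (rs_app (Abelian.factorThruImage S.m) hWW₁ s).trans
      ((congrArg (rs (Abelian.image S.m) hWW₁) hs).trans (rs_rs _ _ _ _))
  haveI := S.epi_q
  have hker : ∀ {U : X.Opens} (f : Γ(X, U)),
      (v'.hom.app (op U)).hom f = 0 ↔ (S.q.hom.app (op U)).hom f = 0 := by
    intro U f
    rw [← (injective_iff_map_eq_zero' _).1 (kernel_ι_injective (cokernel.π S.m) U)]
    change ((v' ≫ kernel.ι (cokernel.π S.m)).hom.app (op U)).hom f = 0 ↔ j.app U f = 0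
    rw [hv', ← S.colon' f]
    constructor <;> intro h
    · have h2 := congrArg (val (Z := Z') (U := i' ⁻¹ᵁ U)) h
      rw [S.val_v] at h2
      change i'.app U (1 + S.tU U * f) = 1 at h2
      rw [map_add, map_one] at h2
      simpa using h2
    · apply val_injective (Z := Z') (U := i' ⁻¹ᵁ U)
      rw [S.val_v]
      change i'.app U (1 + S.tU U * f) = 1
      rw [map_add, map_one, h, add_zero]
  have h1 : kernel.ι S.q ≫ v' = 0 := by
    apply Sheaf.hom_ext
    ext U f
    exact (hker (U := U.unop) _).2 (kernel_ι_app_zero S.q U.unop f)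
  have h2 : kernel.ι v' ≫ S.q = 0 := by
    apply Sheaf.hom_ext
    ext U f
    exact (hker (U := U.unop) _).1 (kernel_ι_app_zero v' U.unop f)
  let e : Abelian.image S.m ≅ (CohTop.push j.base).obj (O Y) :=
    { hom := Abelian.epiDesc v' S.q h2
      inv := Abelian.epiDesc S.q v' h1
      hom_inv_id := by
        rw [← cancel_epi v', ← Category.assoc, Abelian.comp_epiDesc, Abelian.comp_epiDesc, Category.comp_id]
      inv_hom_id := by
        rw [← cancel_epi S.q, ← Category.assoc, Abelian.comp_epiDesc, Abelian.comp_epiDesc, Category.comp_id] }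
  haveI : IsIso e.hom := ⟨e.inv, e.hom_inv_id, e.inv_hom_id⟩
  haveI : IsIso e.inv := ⟨e.hom, e.inv_hom_id, e.hom_inv_id⟩
  haveI : Mono (e.inv ≫ kernel.ι (cokernel.π S.m)) := mono_comp _ _
  have ham : a ≫ S.m = 0 := by
    change a ≫ kernel.ι _ ≫ _ = 0
    rw [← Category.assoc, ha, kernel.condition]
  have w : a ≫ Abelian.factorThruImage S.m ≫ e.hom = 0 := by
    rw [← cancel_mono (e.inv ≫ kernel.ι (cokernel.π S.m)), zero_comp]
    simp only [Category.assoc, Iso.hom_inv_id_assoc]
    rw [Abelian.image.fac]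
    exact ham
  refine ⟨a, _, w, ShortComplex.ShortExact.mk' ?_ inferInstance (epi_comp _ _)⟩
  refine exact_of_sections fun U s hs x hx => ⟨U, le_rfl, hx, ?_⟩
  have hm : (S.m.hom.app (op U)).hom s = 0 := by
    have h3 := congrArg ((e.inv ≫ kernel.ι (cokernel.π S.m)).hom.app (op U)).hom hs
    rw [map_zero] at h3
    rw [← h3]
    change _ = (((Abelian.factorThruImage S.m ≫ e.hom) ≫ e.inv ≫ kernel.ι (cokernel.π S.m)).hom.app (op U)).hom s
    simp only [Category.assoc, Iso.hom_inv_id_assoc]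
    rw [Abelian.image.fac]
  obtain ⟨t, ht⟩ := exists_kernel_section (UnitsSh.comap i') U _ hm
  refine ⟨t, (kernel_ι_injective (UnitsSh.comap i) U ?_).trans (rs_refl (K i) s).symm⟩
  change ((a ≫ kernel.ι (UnitsSh.comap i)).hom.app (op U)).hom t = _
  rw [ha, ht]
  rfl

end Step

section Cohomology

variable {T : TopCat.{u}} {S : ShortComplex (CohTop.Ab T)} (hS : S.ShortExact) {n : ℕ}
include hS

/-- Cohomology of an extension vanishes when it does for the outer terms. -/
theorem subsingleton_H_middle (h₁ : Subsingleton (Sheaf.H S.X₁ n)) (h₃ : Subsingleton (Sheaf.H S.X₃ n)) :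
    Subsingleton (Sheaf.H S.X₂ n) := by
  refine subsingleton_of_forall_eq 0 fun x => ?_
  obtain ⟨y, hy⟩ := Abelian.Ext.covariant_sequence_exact₂ ((constantSheaf (Opens.grothendieckTopology T) AddCommGrpCat.{u}).obj (AddCommGrpCat.of (ULift.{u} ℤ))) hS x (Subsingleton.elim _ _)
  rw [← hy, Subsingleton.elim y 0]
  exact Abelian.Ext.zero_comp _ _ (Abelian.Ext.mk₀ S.f) n (add_zero n)

/-- Surjectivity from vanishing of the next group of the kernel. -/
theorem surjective_H_map (h₁ : Subsingleton (Sheaf.H S.X₁ (n + 1))) :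
    Function.Surjective (Sheaf.H.map S.g n) := fun x => by
  obtain ⟨y, hy⟩ := Abelian.Ext.covariant_sequence_exact₃ ((constantSheaf (Opens.grothendieckTopology T) AddCommGrpCat.{u}).obj (AddCommGrpCat.of (ULift.{u} ℤ))) hS x rfl (Subsingleton.elim _ _)
  exact ⟨y, hy⟩

end Cohomology

/-- Cohomology of the direct image along a closed immersion. -/
theorem H_push_O {Y : Scheme.{u}} (j : Y ⟶ X) [IsClosedImmersion j] (n : ℕ) :
    Nonempty (Coh.HH Y (Coh.structureModule Y) n ≃+ Sheaf.H ((CohTop.push j.base).obj (O Y)) n) :=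
  Groth.Agent.CohTop.Push.H_push_of_vanishing j.base (O Y)
    (Groth.Agent.CohTop.Push.higherVanish_of_isClosedEmbedding j.base j.isClosedEmbedding (O Y)) n

/-- A step kills cohomology. -/
theorem Step.subsingleton_H {Z Z' Y : Scheme.{u}} {i : Z ⟶ X} {i' : Z' ⟶ X} {j : Y ⟶ X}
    [IsClosedImmersion j] (S : Step i i' j) {n : ℕ} (h' : Subsingleton (Sheaf.H (K i') n))
    (hj : Subsingleton (Coh.HH Y (Coh.structureModule Y) n)) : Subsingleton (Sheaf.H (K i) n) := by
  obtain ⟨f, g, w, hS⟩ := S.exists_shortExact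
  obtain ⟨e⟩ := H_push_O j n
  exact subsingleton_H_middle hS h' e.symm.injective.subsingleton

/-- An injective units map has trivial kernel. -/
theorem isZero_K {Z : Scheme.{u}} (i : Z ⟶ X)
    (h : ∀ W : X.Opens, IsAffineOpen W → ∀ a : Γ(X, W), i.app W a = 0 → a = 0) : IsZero (K i) := by
  haveI : Mono (UnitsSh.comap i) := by
    refine mono_of_injective _ fun U => (injective_iff_map_eq_zero _).2 fun s hs => ?_
    apply val_injective
    rw [val_zero, ← sub_eq_zero]
    refine Groth.Agent.DefSchLib.eq_of_affine fun V => ?_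
    rw [map_zero]
    exact h _ V.1.2 _ (Step.app_eq_zero_res i V.2 ((comap_eq_zero_iff i s).1 hs))
  exact isZero_kernel_of_mono _

end Groth.Agent.UnitsThick
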