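import Groth.Agent.CohTop.Basic
import Groth.Agent.CohAff.Godement

/-!
# The long exact sequence of sheaf cohomology, for `Sheaf.H`
-/

set_option autoImplicit false
set_option backward.isDefEq.respectTransparency.types false

universe u

open CategoryTheory CategoryTheory.Limits Opposite TopologicalSpace

noncomputable section

namespace Groth.Agent.UnitsThick.LES

variable {T : TopCat.{u}}

/-- The source of the `Ext` groups computing `H`. -/
abbrev C₀ (T : TopCat.{u}) : Sheaf (Opens.grothendieckTopology T) AddCommGrpCat.{u} :=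
  (constantSheaf (Opens.grothendieckTopology T) AddCommGrpCat.{u}).obj (AddCommGrpCat.of (ULift.{u} ℤ))

variable {S : ShortComplex (CohTop.Ab T)} (hS : S.ShortExact) (n : ℕ)

/-- The connecting map. -/
def δ : Sheaf.H S.X₃ n →+ Sheaf.H S.X₁ (n + 1) := hS.extClass.postcomp (C₀ T) rfl

lemma map_g_map_f (x : Sheaf.H S.X₁ n) : Sheaf.H.map S.g n (Sheaf.H.map S.f n x) = 0 := by
  rw [← Sheaf.H.map_comp_apply, S.zero, Sheaf.H.map_apply, Abelian.Ext.mk₀_zero]
  exact Abelian.Ext.comp_zero (Y := S.X₁) x S.X₃ 0 n (add_zero n)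

lemma δ_map_g (x : Sheaf.H S.X₂ n) : δ hS n (Sheaf.H.map S.g n x) = 0 := by
  refine (Abelian.Ext.comp_assoc_of_second_deg_zero (x : Abelian.Ext (C₀ T) S.X₂ n)
    (Abelian.Ext.mk₀ S.g) hS.extClass (show n + 1 = n + 1 from rfl)).trans ?_
  rw [ShortComplex.ShortExact.comp_extClass]
  exact Abelian.Ext.comp_zero (x : Abelian.Ext (C₀ T) S.X₂ n) _ _ _ rfl

lemma map_f_δ (x : Sheaf.H S.X₃ n) : Sheaf.H.map S.f (n + 1) (δ hS n x) = 0 := by
  refine (Abelian.Ext.comp_assoc_of_third_deg_zero (x : Abelian.Ext (C₀ T) S.X₃ n)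
    hS.extClass (Abelian.Ext.mk₀ S.f) (show n + 1 = n + 1 from rfl)).trans ?_
  rw [ShortComplex.ShortExact.extClass_comp]
  exact Abelian.Ext.comp_zero (x : Abelian.Ext (C₀ T) S.X₃ n) _ _ _ rfl

include hS in
lemma exact₂ (x : Sheaf.H S.X₂ n) (hx : Sheaf.H.map S.g n x = 0) : ∃ y, Sheaf.H.map S.f n y = x :=
  Abelian.Ext.covariant_sequence_exact₂ (C₀ T) hS x hx

lemma exact₁ (x : Sheaf.H S.X₁ (n + 1)) (hx : Sheaf.H.map S.f (n + 1) x = 0) : ∃ y, δ hS n y = x :=
  Abelian.Ext.covariant_sequence_exact₁ (C₀ T) hS x hx rfl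

lemma exact₃ (x : Sheaf.H S.X₃ n) (hx : δ hS n x = 0) : ∃ y, Sheaf.H.map S.g n y = x :=
  Abelian.Ext.covariant_sequence_exact₃ (C₀ T) hS x rfl hx

lemma ker_δ : (δ hS n).ker = (Sheaf.H.map S.g n).range := by
  ext x
  exact ⟨fun h => exact₃ hS n x h, fun ⟨y, hy⟩ => hy ▸ δ_map_g hS n y⟩

lemma ker_map_f : (Sheaf.H.map S.f (n + 1)).ker = (δ hS n).range := by
  ext x
  exact ⟨fun h => exact₁ hS n x h, fun ⟨y, hy⟩ => hy ▸ map_f_δ hS n y⟩

include hS in
lemma map_f_zero_injective : Function.Injective (Sheaf.H.map S.f 0) := fun a b h => by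
  have h1 := congrArg (Sheaf.H.equiv₀ S.X₂ isTerminalTop) h
  rw [← Sheaf.H.equiv₀_naturality, ← Sheaf.H.equiv₀_naturality] at h1
  exact (Sheaf.H.equiv₀ S.X₁ isTerminalTop).injective (CohAff.sec_f_injective hS ⊤ h1)

end Groth.Agent.UnitsThick.LES
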