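import Groth.Agent.UnitsThick.PicH1

/-!
# `Pic X ≅ H¹(X, O_X^×)`, compatibly with pullback along `i`
-/

set_option autoImplicit false
set_option backward.isDefEq.respectTransparency false
set_option backward.isDefEq.respectTransparency.types false

universe u

open CategoryTheory CategoryTheory.Limits AlgebraicGeometry Opposite TopologicalSpace

noncomputable section

namespace Groth.Agent.PicUnits

open Groth.Agent.UnitsThick (P val val_injective)
open Groth.Agent.CohAff (sec)

variable (X : Scheme.{u})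

/-- The identification `O^× ⟶ 𝟙_* O^×`. -/
def toP : UnitsSh.unitsAb X ⟶ P (𝟙 X) := UnitsSh.comap (𝟙 X)

/-- Its inverse. -/
def fromP : P (𝟙 X) ⟶ UnitsSh.unitsAb X :=
  ⟨{ app := fun V => AddCommGrpCat.ofHom (AddMonoidHom.id _)
     naturality := fun {U V} h => by ext a; rfl }⟩

lemma toP_fromP : toP X ≫ fromP X = 𝟙 _ := by
  apply Sheaf.hom_ext
  ext U a
  rfl

lemma fromP_toP : fromP X ≫ toP X = 𝟙 _ := by
  apply Sheaf.hom_ext
  ext U a
  rfl

variable [PicGrp.Law X]

/-- `H¹(X, O^×) → Pic X`. -/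
def psiX : Sheaf.H (UnitsSh.unitsAb X) 1 →+ Additive (PicLoc.PicSet X) :=
  (psi (𝟙 X)).comp (Sheaf.H.map (toP X) 1)

theorem toP_H_bijective : Function.Bijective (Sheaf.H.map (toP X) 1) := by
  refine ⟨fun a b h => ?_, fun b => ⟨Sheaf.H.map (fromP X) 1 b, ?_⟩⟩
  · have := congrArg (Sheaf.H.map (fromP X) 1) h
    rwa [← Sheaf.H.map_comp_apply, ← Sheaf.H.map_comp_apply, toP_fromP, Sheaf.H.map_id_apply,
      Sheaf.H.map_id_apply] at this
  · rw [← Sheaf.H.map_comp_apply, fromP_toP, Sheaf.H.map_id_apply]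

theorem psi_id_bijective : Function.Bijective (psi (𝟙 X)) := by
  refine ⟨psi_injective _, psi_surjective _ fun L hL y => ?_⟩
  exact htriv_of_isEmbedding (𝟙 X) (𝟙 X : X ⟶ X).isClosedEmbedding.isEmbedding
    (𝟙 X : X ⟶ X).isClosedEmbedding.isClosed_range L hL y

theorem psiX_bijective : Function.Bijective (psiX X) := by
  rw [psiX, AddMonoidHom.coe_comp]
  exact (psi_id_bijective X).comp (toP_H_bijective X)

variable {X} {Z : Scheme.{u}} [PicGrp.Law Z] (i : Z ⟶ X)

/-- Pullback corresponds to the units map. -/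
theorem psi_comap (h : PicGrp.PullMul i) (c : Sheaf.H (UnitsSh.unitsAb X) 1) :
    (psi i (Sheaf.H.map (UnitsSh.comap i) 1 c)).toMul = PicGrp.pullHom i h (psiX X c).toMul := by
  have hfac : UnitsSh.comap i = toP X ≫ (fromP X ≫ UnitsSh.comap i) := by
    rw [← Category.assoc, toP_fromP, Category.id_comp]
  rw [hfac, Sheaf.H.map_comp_apply]
  refine Subtype.ext ((psiFun_map i (fromP X ≫ UnitsSh.comap i) (fun V a => rfl)
    (Sheaf.H.map (toP X) 1 c)).trans ?_)
  exact (PicGrp.pullHom_apply_val i h _).symm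

theorem psi_bijective [IsClosedImmersion i] : Function.Bijective (psi i) :=
  ⟨psi_injective i, psi_surjective i (htriv_of_isEmbedding i i.isClosedEmbedding.isEmbedding
    i.isClosedEmbedding.isClosed_range)⟩

end Groth.Agent.PicUnits
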