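import Groth.Agent.UnitsThick.PicIso
import Groth.Agent.UnitsThick.LES

/-!
# Mayer–Vietoris for units on a union of two closed subschemes

* `psiFun_pmap`: restriction maps between pushed unit sheaves are pullback of invertible classes.
* `exists_shortExact_union`: `0 → O_X^× → i_*O_Y^× ⊞ j_*O_Z^× → k_*O_W^× → 0`.
-/

set_option autoImplicit false
set_option backward.isDefEq.respectTransparency false
set_option backward.isDefEq.respectTransparency.types false

universe u

open CategoryTheory CategoryTheory.Limits AlgebraicGeometry Opposite TopologicalSpace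

noncomputable section

namespace Groth.Agent.PicUnits

open Groth.Agent.QCoh (rres rres_rres res res_res res_smul)
open Groth.Agent.Props.GenPull (pb isGen_pb)
open Groth.Agent.UnitsThick (P val val_injective)
open Groth.Agent.CohAff (gd qt sec gdMap gqMap gdδ sec_res)

variable {X Y W : Scheme.{u}} (h : W ⟶ Y) (i : Y ⟶ X)

/-- Restriction of pushed units along `h`. -/
def pmap : P i ⟶ P (h ≫ i) := (CohTop.push i.base).map (UnitsSh.comap h)

lemma sec_pmap (V : X.Opens) (a : (Γ(Y, i ⁻¹ᵁ V))ˣ) :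
    sec (pmap h i) V (uP i V a) = uP (h ≫ i) V (Units.map (h.app (i ⁻¹ᵁ V)).hom.toMonoidHom a) := rfl

variable {h i}

/-- Pullback of a datum along `h`, computed on `X`. -/
def Datum.push {s : (Q i).obj.obj (op (⊤ : X.Opens))} {L : Y.Modules} (d : Datum s L) :
    Datum (f := h ≫ i) (sec (gqMap (pmap h i)) ⊤ s) ((Scheme.Modules.pullback h).obj L) where
  ι := d.ι
  W := d.W
  cover := d.cover
  g k := sec (gdMap (pmap h i)) (d.W k) (d.g k)
  hg k := by
    refine (congrArg (fun φ : G i ⟶ Q (h ≫ i) => sec φ (d.W k) (d.g k))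
      (Groth.Agent.CohAff.gπ_naturality (pmap h i))).trans ?_
    change sec (gqMap (pmap h i)) _ (sec (π i) _ (d.g k)) = _
    rw [d.hg, sec_res]
  e k := pb h (d.e k)
  gen k := isGen_pb h (d.gen k)
  compat k l V hk hl b hb := by
    obtain ⟨a, ha⟩ := exists_diff hk hl (d.hg k) (d.hg l)
    have h1 := congrArg (sec (gdMap (pmap h i)) V) ha
    rw [map_add, ← sec_res, ← sec_res] at h1
    have h2 : sec (gdMap (pmap h i)) V (uel i V a) =
        uel (h ≫ i) V (Units.map (h.app (i ⁻¹ᵁ V)).hom.toMonoidHom a) := by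
      rw [uel, uel, ← sec_pmap]
      exact (congrArg (fun φ : P i ⟶ G (h ≫ i) => sec φ V (uP i V a))
        (Groth.Agent.CohAff.η_naturality (pmap h i))).symm
    rw [h2] at h1
    have h3 := uel_injective (h ≫ i) V (add_left_cancel (h1.symm.trans hb))
    have h4 := congrArg (LFFrame.unitSec h L (i ⁻¹ᵁ V)) (d.compat k l V hk hl a ha)
    erw [LFFrame.unitSec_smul, LFFrame.unitSec_res, LFFrame.unitSec_res] at h4
    rw [← h3]
    exact h4

theorem psiFun_pmap (c : Sheaf.H (P i) 1) :
    (psiFun (h ≫ i) (Sheaf.H.map (pmap h i) 1 c)).1 = PicF.pullCl h (psiFun i c).1 := by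
  have e : Sheaf.H.map (pmap h i) 1 c = cl (h ≫ i) (sec (gqMap (pmap h i)) ⊤ (secOf i c)) := by
    conv_lhs => rw [← cl_secOf i c]
    refine (Groth.Agent.CohAff.gdδ_naturality (pmap h i) _).trans (congrArg (gdδ (P (h ≫ i))) ?_)
    exact Sheaf.H.equiv₀_symm_naturality isTerminalTop (gqMap (pmap h i)) _
  rw [e, psiFun_eq (h ≫ i) (datOf i c).push]
  rfl

variable (h i)

/-- `pmap` with a named composite. -/
def pmapEq (k : W ⟶ X) (w : h ≫ i = k) : P i ⟶ P k := pmap h i ≫ eqToHom (by rw [w])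

theorem psiFun_pmapEq (k : W ⟶ X) (w : h ≫ i = k) (c : Sheaf.H (P i) 1) :
    (psiFun k (Sheaf.H.map (pmapEq h i k w) 1 c)).1 = PicF.pullCl h (psiFun i c).1 := by
  subst w
  simp only [pmapEq, eqToHom_refl, Category.comp_id]
  exact psiFun_pmap c

theorem psi_pmapEq [PicGrp.Law W] [PicGrp.Law Y] (k : W ⟶ X) (w : h ≫ i = k) (hh : PicGrp.PullMul h)
    (c : Sheaf.H (P i) 1) :
    (psi k (Sheaf.H.map (pmapEq h i k w) 1 c)).toMul = PicGrp.pullHom h hh (psi i c).toMul :=
  Subtype.ext ((psiFun_pmapEq h i k w c).trans (PicGrp.pullHom_apply_val h hh _).symm)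

theorem comap_pmapEq (k : W ⟶ X) (w : h ≫ i = k) :
    UnitsSh.comap i ≫ pmapEq h i k w = UnitsSh.comap k := by
  subst w
  simp only [pmapEq, eqToHom_refl, Category.comp_id]
  apply Sheaf.hom_ext
  ext U a
  apply val_injective (Z := W) (U := (h ≫ i) ⁻¹ᵁ U.unop)
  rfl

end Groth.Agent.PicUnits

namespace Groth.Agent.UnitsThick.Union

open Groth.Agent.CohTop.SubStalk Groth.Agent.CohTop.Vanishing Groth.Agent.UnitsThick
open Groth.Agent.PicUnits (pmapEq comap_pmapEq)

variable {X : Scheme.{u}}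

/-- Units surject onto pushed units of a closed subscheme, locally. -/
theorem epi_comap_subschemeι (I : X.IdealSheafData) : Epi (UnitsSh.comap I.subschemeι) := by
  refine epi_of_locally _ fun U t x hx => ?_
  by_cases hxI : x ∈ Set.range I.subschemeι.base
  · obtain ⟨V, hV, hxV, hVU⟩ := exists_affine (X := X) hx
    let v : (Γ(I.subscheme, I.subschemeι ⁻¹ᵁ V))ˣ := UnitsSh.unitOfSect (rs (P I.subschemeι) hVU t)
    obtain ⟨a, ha⟩ := I.subschemeι_app_surjective ⟨V, hV⟩ v.val
    let W := X.basicOpen a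
    have hWV : W ≤ V := X.basicOpen_le a
    refine ⟨W, hWV.trans hVU, ?_, ?_⟩
    · obtain ⟨y, rfl⟩ := hxI
      change y ∈ I.subschemeι ⁻¹ᵁ X.basicOpen a
      rw [Scheme.preimage_basicOpen, ha, Scheme.basicOpen_of_isUnit _ v.isUnit]
      exact hxV
    · refine ⟨UnitsSh.sectOfUnit (X.toRingedSpace.isUnit_res_basicOpen a).unit, ?_⟩
      apply val_injective (Z := I.subscheme) (U := I.subschemeι ⁻¹ᵁ W)
      refine (val_comap _ _).trans ?_
      change I.subschemeι.app W (X.presheaf.map (homOfLE hWV).op a) = _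
      rw [Groth.Agent.DefSchLib.app_res _ hWV, ha]
      change _ = val (Z := I.subscheme) (rs (P I.subschemeι) (hWV.trans hVU) t)
      rw [← rs_rs (P I.subschemeι) hVU hWV]
      rfl
  · refine ⟨U ⊓ ⟨(Set.range I.subschemeι.base)ᶜ, I.subschemeι.isClosedEmbedding.isClosed_range.isOpen_compl⟩,
      inf_le_left, ⟨hx, hxI⟩, 0, ?_⟩
    apply val_injective (Z := I.subscheme)
    have hbot : I.subschemeι ⁻¹ᵁ (U ⊓ ⟨(Set.range I.subschemeι.base)ᶜ,
        I.subschemeι.isClosedEmbedding.isClosed_range.isOpen_compl⟩) = ⊥ :=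
      le_bot_iff.mp fun z hz => (hz.2 ⟨z, rfl⟩).elim
    haveI : Subsingleton Γ(I.subscheme, I.subschemeι ⁻¹ᵁ (U ⊓ ⟨(Set.range I.subschemeι.base)ᶜ,
        I.subschemeι.isClosedEmbedding.isClosed_range.isOpen_compl⟩)) := by
      rw [hbot]
      exact CommRingCat.subsingleton_of_isTerminal (I.subscheme.sheaf.isTerminalOfEqEmpty rfl)
    exact Subsingleton.elim _ _

variable (I J : X.IdealSheafData)

/-- Restriction from the first part. -/
abbrev rY : P I.subschemeι ⟶ P (I ⊔ J).subschemeι :=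
  pmapEq (Scheme.IdealSheafData.inclusion (le_sup_left : I ≤ I ⊔ J)) I.subschemeι _
    (Scheme.IdealSheafData.inclusion_subschemeι _)

/-- Restriction from the second part. -/
abbrev rZ : P J.subschemeι ⟶ P (I ⊔ J).subschemeι :=
  pmapEq (Scheme.IdealSheafData.inclusion (le_sup_right : J ≤ I ⊔ J)) J.subschemeι _
    (Scheme.IdealSheafData.inclusion_subschemeι _)

/-- Both restrictions. -/
abbrev res₂ : UnitsSh.unitsAb X ⟶ P I.subschemeι ⊞ P J.subschemeι :=
  biprod.lift (UnitsSh.comap I.subschemeι) (UnitsSh.comap J.subschemeι)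

/-- The difference. -/
abbrev diff : P I.subschemeι ⊞ P J.subschemeι ⟶ P (I ⊔ J).subschemeι :=
  biprod.desc (rY I J) (-rZ I J)

lemma res₂_diff : res₂ I J ≫ diff I J = 0 := by
  rw [biprod.lift_desc, Preadditive.comp_neg, comap_pmapEq, comap_pmapEq, add_neg_cancel]

lemma mem_ker_app {I : X.IdealSheafData} {V : X.Opens} (hV : IsAffineOpen V) (a : Γ(X, V)) :
    I.subschemeι.app V a = 0 ↔ a ∈ I.ideal ⟨V, hV⟩ := by
  rw [← I.ker_subschemeι_app ⟨V, hV⟩, RingHom.mem_ker]

theorem shortExact (hIJ : I ⊓ J = ⊥) :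
    (ShortComplex.mk (res₂ I J) (diff I J) (res₂_diff I J)).ShortExact := by
  have hbot : ∀ {V : X.Opens} (hV : IsAffineOpen V) {a : Γ(X, V)},
      a ∈ I.ideal ⟨V, hV⟩ → a ∈ J.ideal ⟨V, hV⟩ → a = 0 := by
    intro V hV a h1 h2
    have : a ∈ (I ⊓ J).ideal ⟨V, hV⟩ := by
      rw [Scheme.IdealSheafData.ideal_inf]
      exact ⟨h1, h2⟩
    rw [hIJ, Scheme.IdealSheafData.ideal_bot] at this
    simpa using this
  haveI : Mono (res₂ I J) := by
    refine mono_of_injective _ fun U => (injective_iff_map_eq_zero _).2 fun s hs => ?_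
    have h1 : ((UnitsSh.comap I.subschemeι).hom.app (op U)).hom s = 0 := by
      rw [show UnitsSh.comap I.subschemeι = res₂ I J ≫ biprod.fst from (biprod.lift_fst _ _).symm]
      change ((biprod.fst : P I.subschemeι ⊞ P J.subschemeι ⟶ _).hom.app (op U)).hom _ = 0
      exact (congrArg _ hs).trans (map_zero _)
    have h2 : ((UnitsSh.comap J.subschemeι).hom.app (op U)).hom s = 0 := by
      rw [show UnitsSh.comap J.subschemeι = res₂ I J ≫ biprod.snd from (biprod.lift_snd _ _).symm]
      change ((biprod.snd : P I.subschemeι ⊞ P J.subschemeι ⟶ _).hom.app (op U)).hom _ = 0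
      exact (congrArg _ hs).trans (map_zero _)
    apply val_injective
    rw [val_zero, ← sub_eq_zero]
    refine Groth.Agent.DefSchLib.eq_of_affine fun V => ?_
    rw [map_zero]
    exact hbot V.1.2 ((mem_ker_app V.1.2 _).1 (Step.app_eq_zero_res _ V.2 ((comap_eq_zero_iff _ s).1 h1)))
      ((mem_ker_app V.1.2 _).1 (Step.app_eq_zero_res _ V.2 ((comap_eq_zero_iff _ s).1 h2)))
  haveI : Epi (diff I J) := by
    haveI := epi_comap_subschemeι (I ⊔ J)
    have : (UnitsSh.comap I.subschemeι ≫ biprod.inl) ≫ diff I J = UnitsSh.comap (I ⊔ J).subschemeι := by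
      rw [Category.assoc, biprod.inl_desc, comap_pmapEq]
    exact epi_of_epi_fac this
  refine ShortComplex.ShortExact.mk' ?_ inferInstance inferInstance
  refine exact_of_sections fun U p hp x hx => ?_
  obtain ⟨V, hV, hxV, hVU⟩ := exists_affine (X := X) hx
  let p' := rs (P I.subschemeι ⊞ P J.subschemeι) hVU p
  have hp' : ((diff I J).hom.app (op V)).hom p' = 0 := by rw [rs_app, hp, map_zero]
  let y := ((biprod.fst : P I.subschemeι ⊞ P J.subschemeι ⟶ _).hom.app (op V)).hom p'
  let z := ((biprod.snd : P I.subschemeι ⊞ P J.subschemeι ⟶ _).hom.app (op V)).hom p'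
  have hd : diff I J = biprod.fst ≫ rY I J + biprod.snd ≫ (-rZ I J) := biprod.desc_eq
  have hyz : ((rY I J).hom.app (op V)).hom y = ((rZ I J).hom.app (op V)).hom z := by
    rw [hd] at hp'
    rw [← sub_eq_zero, sub_eq_add_neg]
    exact hp'
  have lift : ∀ (K : X.IdealSheafData) (t : (P K.subschemeι).obj.obj (op V)),
      ∃ a : Γ(X, V), K.subschemeι.app V a = val (Z := K.subscheme) t :=
    fun K t => K.subschemeι_app_surjective ⟨V, hV⟩ _
  have split : ∀ (y : (P I.subschemeι).obj.obj (op V)) (z : (P J.subschemeι).obj.obj (op V)),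
      ((rY I J).hom.app (op V)).hom y = ((rZ I J).hom.app (op V)).hom z →
      ∃ c : Γ(X, V), I.subschemeι.app V c = val (Z := I.subscheme) y ∧
        J.subschemeι.app V c = val (Z := J.subscheme) z := by
    intro y z hyz
    obtain ⟨a, ha⟩ := lift I y
    obtain ⟨b, hb⟩ := lift J z
    have key : ∀ (K : X.IdealSheafData) (hK : K ≤ I ⊔ J) (t : (P K.subschemeι).obj.obj (op V)) (a : Γ(X, V)),
        K.subschemeι.app V a = val (Z := K.subscheme) t →
          (I ⊔ J).subschemeι.app V a = val (Z := (I ⊔ J).subscheme)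
            (((pmapEq (Scheme.IdealSheafData.inclusion hK) K.subschemeι _
              (Scheme.IdealSheafData.inclusion_subschemeι hK)).hom.app (op V)).hom t) := by
      intro K hK t a ha
      have hgen : ∀ (k : (I ⊔ J).subscheme ⟶ X) (w : Scheme.IdealSheafData.inclusion hK ≫ K.subschemeι = k),
          k.app V a = val (Z := (I ⊔ J).subscheme)
            (((pmapEq (Scheme.IdealSheafData.inclusion hK) K.subschemeι k w).hom.app (op V)).hom t) := by
        intro k w
        subst w
        simp only [pmapEq, eqToHom_refl, Category.comp_id]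
        change (Scheme.IdealSheafData.inclusion hK).app _ (K.subschemeι.app V a) = _
        rw [ha]
        rfl
      exact hgen _ _
    have h : (I ⊔ J).subschemeι.app V (a - b) = 0 := by
      rw [map_sub, key I le_sup_left y a ha, key J le_sup_right z b hb]
      rw [show ((rY I J).hom.app (op V)).hom y = _ from hyz, sub_self]
    rw [mem_ker_app hV, Scheme.IdealSheafData.ideal_sup] at h
    obtain ⟨m, hm, n, hn, hmn⟩ := Submodule.mem_sup.1 h
    refine ⟨a - m, ?_, ?_⟩
    · rw [map_sub, ha, (mem_ker_app hV m).2 hm, sub_zero]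
    · rw [show a - m = b + n by linear_combination -hmn, map_add, hb, (mem_ker_app hV n).2 hn, add_zero]
  obtain ⟨c, hc1, hc2⟩ := split y z hyz
  obtain ⟨d, hd1, hd2⟩ := split (-y) (-z) (by rw [map_neg, map_neg, hyz])
  have hcd : c * d = 1 := by
    refine sub_eq_zero.1 (hbot hV ((mem_ker_app hV _).1 ?_) ((mem_ker_app hV _).1 ?_))
    · rw [map_sub, map_mul, map_one, hc1, hd1, sub_eq_zero]
      exact (UnitsSh.unitOfSect y).mul_inv
    · rw [map_sub, map_mul, map_one, hc2, hd2, sub_eq_zero]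
      exact (UnitsSh.unitOfSect z).mul_inv
  let u : (Γ(X, V))ˣ := ⟨c, d, hcd, (mul_comm d c).trans hcd⟩
  refine ⟨V, hVU, hxV, UnitsSh.sectOfUnit u, ?_⟩
  have hext : ∀ q q' : (P I.subschemeι ⊞ P J.subschemeι).obj.obj (op V),
      ((biprod.fst : P I.subschemeι ⊞ P J.subschemeι ⟶ _).hom.app (op V)).hom q =
        ((biprod.fst : P I.subschemeι ⊞ P J.subschemeι ⟶ _).hom.app (op V)).hom q' →
      ((biprod.snd : P I.subschemeι ⊞ P J.subschemeι ⟶ _).hom.app (op V)).hom q =
        ((biprod.snd : P I.subschemeι ⊞ P J.subschemeι ⟶ _).hom.app (op V)).hom q' → q = q' := by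
    intro q q' h1 h2
    have e : ∀ r, ((biprod.inl : P I.subschemeι ⟶ P I.subschemeι ⊞ P J.subschemeι).hom.app (op V)).hom
        (((biprod.fst : P I.subschemeι ⊞ P J.subschemeι ⟶ _).hom.app (op V)).hom r) +
        ((biprod.inr : P J.subschemeι ⟶ P I.subschemeι ⊞ P J.subschemeι).hom.app (op V)).hom
        (((biprod.snd : P I.subschemeι ⊞ P J.subschemeι ⟶ _).hom.app (op V)).hom r) = r := fun r => by
      change ((biprod.fst ≫ biprod.inl + biprod.snd ≫ biprod.inr :
        P I.subschemeι ⊞ P J.subschemeι ⟶ P I.subschemeι ⊞ P J.subschemeι).hom.app (op V)).hom r = r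
      rw [biprod.total]
      rfl
    rw [← e q, ← e q', h1, h2]
  refine hext _ _ ?_ ?_
  · change ((res₂ I J ≫ biprod.fst).hom.app (op V)).hom _ = y
    rw [biprod.lift_fst]
    exact val_injective (Z := I.subscheme) hc1
  · change ((res₂ I J ≫ biprod.snd).hom.app (op V)).hom _ = z
    rw [biprod.lift_snd]
    exact val_injective (Z := J.subscheme) hc2

end Groth.Agent.UnitsThick.Union
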