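import Groth.Agent.UnitsThick.Core
import Groth.Agent.CohAff.CechH
import Groth.Agent.LineCoc.Basic
import Groth.Agent.Props.GenTensor
import Groth.Agent.Props.GenPull
import Groth.Agent.AmpleLib.GenIso

/-!
# Invertible modules from global sections of the Godement quotient of units

For `f : Z ⟶ Y`, a global section `s` of `qt (f_* O_Z^×)` has local lifts, whose differences are units on `Z`,
the transition functions of an invertible module `L`; `Datum f s L` records the relation.
-/

set_option autoImplicit false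
set_option backward.isDefEq.respectTransparency false
set_option backward.isDefEq.respectTransparency.types false

universe u

open CategoryTheory CategoryTheory.Limits AlgebraicGeometry Opposite TopologicalSpace

noncomputable section

namespace Groth.Agent.PicUnits

open Groth.Agent.QCoh (rres rres_rres res res_res res_smul)
open Groth.Agent.Props.GenLocus (IsGen)
open Groth.Agent.Props.GenTensor (tmul res_tmul tmul_smul_left tmul_smul_right isGen_tmul)
open Groth.Agent.Props.GenPull (pb isGen_pb)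
open Groth.Agent.UnitsThick (P val val_injective)
open Groth.Agent.CohAff (gd qt sec gdMap sec_res sec_f_injective sec_exact sec_g_f sec_locally_surjective
  gdSeq gdSeq_shortExact)

variable {Z Y : Scheme.{u}} (f : Z ⟶ Y)

/-- The Godement sheaf of the units. -/
abbrev G : CohTop.Ab Y.toTopCat := gd (P f)

/-- The quotient. -/
abbrev Q : CohTop.Ab Y.toTopCat := qt (P f)

/-- The projection. -/
abbrev π : G f ⟶ Q f := cokernel.π (Groth.Agent.CohAff.η (P f))

/-- Restriction of sections of sheaves on `Y`. -/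
abbrev ares (F : CohTop.Ab Y.toTopCat) {U V : Y.Opens} (h : V ≤ U) :
    F.obj.obj (op U) →+ F.obj.obj (op V) := Groth.Agent.CohAff.res F.obj h

lemma ares_ares (F : CohTop.Ab Y.toTopCat) {U V W : Y.Opens} (h : V ≤ U) (h' : W ≤ V)
    (s : F.obj.obj (op U)) : ares F h' (ares F h s) = ares F (h'.trans h) s :=
  Groth.Agent.CohAff.res_res F.obj h h' s

/-- A unit as a section of `f_* O_Z^×`. -/
def uP (V : Y.Opens) (a : (Γ(Z, f ⁻¹ᵁ V))ˣ) : (P f).obj.obj (op V) :=
  UnitsSh.sectOfUnit (X := Z.toTopCat) (O := Z.presheaf) (U := op (f ⁻¹ᵁ V)) a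

/-- A unit as a section of the Godement sheaf. -/
def uel (V : Y.Opens) (a : (Γ(Z, f ⁻¹ᵁ V))ˣ) : (G f).obj.obj (op V) :=
  sec (Groth.Agent.CohAff.η (P f)) V (uP f V a)

/-- Restriction of units. -/
abbrev ures {V U : Z.Opens} (h : V ≤ U) : (Γ(Z, U))ˣ →* (Γ(Z, V))ˣ := Units.map (rres h).hom.toMonoidHom

lemma uP_mul (V : Y.Opens) (a b : (Γ(Z, f ⁻¹ᵁ V))ˣ) : uP f V (a * b) = uP f V a + uP f V b := rfl

lemma uel_mul (V : Y.Opens) (a b : (Γ(Z, f ⁻¹ᵁ V))ˣ) : uel f V (a * b) = uel f V a + uel f V b := by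
  rw [uel, uP_mul, map_add]; rfl

lemma uel_one (V : Y.Opens) : uel f V 1 = 0 :=
  (congrArg (sec (Groth.Agent.CohAff.η (P f)) V) (show uP f V 1 = 0 from rfl)).trans (map_zero _)

lemma uel_res {V W : Y.Opens} (h : W ≤ V) (a : (Γ(Z, f ⁻¹ᵁ V))ˣ) :
    ares (G f) h (uel f V a) = uel f W (ures (f.preimage_mono h) a) :=
  sec_res _ h _

lemma uP_surjective (V : Y.Opens) (t : (P f).obj.obj (op V)) : ∃ a, uP f V a = t :=
  ⟨UnitsSh.unitOfSect (X := Z.toTopCat) (O := Z.presheaf) (U := op (f ⁻¹ᵁ V)) t, rfl⟩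

lemma uP_injective (V : Y.Opens) : Function.Injective (uP f V) := fun a b h =>
  congrArg (UnitsSh.unitOfSect (X := Z.toTopCat) (O := Z.presheaf) (U := op (f ⁻¹ᵁ V))) h

lemma uel_injective (V : Y.Opens) : Function.Injective (uel f V) := fun a b h =>
  uP_injective f V (sec_f_injective (gdSeq_shortExact (P f)) V h)

variable {f}

/-- Local lifts of `s` with the generators of `L` transforming by their differences. -/
structure Datum (s : (Q f).obj.obj (op (⊤ : Y.Opens))) (L : Z.Modules) where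
  /-- indices -/
  ι : Type u
  /-- opens -/
  W : ι → Y.Opens
  cover : ∀ y : Y, ∃ i, y ∈ W i
  /-- lifts -/
  g : ∀ i, (G f).obj.obj (op (W i))
  hg : ∀ i, sec (π f) (W i) (g i) = ares (Q f) le_top s
  /-- generators -/
  e : ∀ i, Γ(L, f ⁻¹ᵁ W i)
  gen : ∀ i, IsGen L (f ⁻¹ᵁ W i) (e i)
  compat : ∀ (i j : ι) (V : Y.Opens) (hi : V ≤ W i) (hj : V ≤ W j) (a : (Γ(Z, f ⁻¹ᵁ V))ˣ),
    ares (G f) hj (g j) = ares (G f) hi (g i) + uel f V a →
      res L (f.preimage_mono hj) (e j) = (a : Γ(Z, f ⁻¹ᵁ V)) • res L (f.preimage_mono hi) (e i)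

/-- Two lifts differ by a unit. -/
theorem exists_diff {s : (Q f).obj.obj (op (⊤ : Y.Opens))} {U₁ U₂ V : Y.Opens} (h₁ : V ≤ U₁) (h₂ : V ≤ U₂)
    {g₁ : (G f).obj.obj (op U₁)} {g₂ : (G f).obj.obj (op U₂)}
    (hg₁ : sec (π f) U₁ g₁ = ares (Q f) le_top s) (hg₂ : sec (π f) U₂ g₂ = ares (Q f) le_top s) :
    ∃ a, ares (G f) h₂ g₂ = ares (G f) h₁ g₁ + uel f V a := by
  have h : sec (gdSeq (P f)).g V (ares (G f) h₂ g₂ - ares (G f) h₁ g₁) = 0 := by
    change sec (π f) V _ = 0
    rw [map_sub, ← sec_res, ← sec_res, hg₁, hg₂, ares_ares, ares_ares, sub_self]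
  obtain ⟨t, ht⟩ := sec_exact (gdSeq_shortExact (P f)) h
  obtain ⟨a, rfl⟩ := uP_surjective f V t
  refine ⟨a, ?_⟩
  rw [show uel f V a = ares (G f) h₂ g₂ - ares (G f) h₁ g₁ from ht]
  abel

namespace Datum

variable {s t : (Q f).obj.obj (op (⊤ : Y.Opens))} {L M : Z.Modules}

theorem isInvertible (d : Datum s L) : PicF.IsInvertible L := fun z => by
  obtain ⟨i, hi⟩ := d.cover (f z)
  exact ⟨f ⁻¹ᵁ d.W i, hi, LFFrame.IsFrame.nonempty_restrict_iso
    ((Props.GenLocus.isGen_iff_isFrame _).1 (d.gen i))⟩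

/-- The product of two data. -/
def mul (d : Datum s L) (d' : Datum t M) : Datum (s + t) (CohB1.tensorMod L M) where
  ι := d.ι × d'.ι
  W k := d.W k.1 ⊓ d'.W k.2
  cover y := by
    obtain ⟨i, hi⟩ := d.cover y
    obtain ⟨j, hj⟩ := d'.cover y
    exact ⟨(i, j), hi, hj⟩
  g k := ares (G f) inf_le_left (d.g k.1) + ares (G f) inf_le_right (d'.g k.2)
  hg k := by
    rw [map_add, map_add, ← sec_res, ← sec_res, d.hg, d'.hg, ares_ares, ares_ares]
  e k := tmul (res L (f.preimage_mono inf_le_left) (d.e k.1)) (res M (f.preimage_mono inf_le_right) (d'.e k.2))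
  gen k := isGen_tmul ((d.gen k.1).restrict _) ((d'.gen k.2).restrict _)
  compat k l V hk hl a h := by
    obtain ⟨a₁, h₁⟩ := exists_diff (hk.trans inf_le_left) (hl.trans inf_le_left) (d.hg k.1) (d.hg l.1)
    obtain ⟨a₂, h₂⟩ := exists_diff (hk.trans inf_le_right) (hl.trans inf_le_right) (d'.hg k.2) (d'.hg l.2)
    simp only [map_add, ares_ares] at h
    rw [h₁, h₂, add_add_add_comm, ← uel_mul] at h
    rw [← uel_injective f V (add_left_cancel h), Units.val_mul, res_tmul, res_tmul, res_res, res_res,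
      res_res, res_res, d.compat k.1 l.1 V (hk.trans inf_le_left) (hl.trans inf_le_left) a₁ h₁,
      d'.compat k.2 l.2 V (hk.trans inf_le_right) (hl.trans inf_le_right) a₂ h₂,
      tmul_smul_left, tmul_smul_right, smul_smul]

/-- Shift by a global section of the Godement sheaf. -/
def shift (d : Datum s L) (w : (G f).obj.obj (op (⊤ : Y.Opens))) :
    Datum (s + sec (π f) ⊤ w) L where
  ι := d.ι
  W := d.W
  cover := d.cover
  g i := d.g i + ares (G f) le_top w
  hg i := by rw [map_add, map_add, d.hg, ← sec_res]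
  e := d.e
  gen := d.gen
  compat i j V hi hj a h := d.compat i j V hi hj a (by
    simp only [map_add, ares_ares] at h
    rw [add_right_comm] at h
    exact add_right_cancel h)

/-- Modules with data for the same section are isomorphic. -/
theorem nonempty_iso (d : Datum s L) (d' : Datum s M) : Nonempty (L ≅ M) := by
  choose c hc using fun k : d.ι × d'.ι =>
    exists_diff (f := f) (V := d.W k.1 ⊓ d'.W k.2) inf_le_right inf_le_left (d'.hg k.2) (d.hg k.1)
  let U : d.ι × d'.ι → Z.Opens := fun k => f ⁻¹ᵁ (d.W k.1 ⊓ d'.W k.2)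
  obtain ⟨e, -⟩ := AmpleLib.exists_iso_of_gen (M := L) (N := M) U
    (fun z _ => by
      obtain ⟨i, hi⟩ := d.cover (f z)
      obtain ⟨j, hj⟩ := d'.cover (f z)
      exact Opens.mem_iSup.2 ⟨(i, j), hi, hj⟩)
    (fun k => res L (f.preimage_mono inf_le_left) (d.e k.1)) (fun k => (d.gen k.1).restrict _)
    (fun k => (c k : Γ(Z, U k)) • res M (f.preimage_mono inf_le_right) (d'.e k.2))
    (fun k => ((d'.gen k.2).restrict _).smul_unit (c k).isUnit)
    (fun k l V hk hl v hv => by
      let V₀ : Y.Opens := (d.W k.1 ⊓ d'.W k.2) ⊓ (d.W l.1 ⊓ d'.W l.2)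
      have hV : V ≤ f ⁻¹ᵁ V₀ := le_inf hk hl
      have hk₀ : V₀ ≤ d.W k.1 ⊓ d'.W k.2 := inf_le_left
      have hl₀ : V₀ ≤ d.W l.1 ⊓ d'.W l.2 := inf_le_right
      obtain ⟨a, ha⟩ := exists_diff (hk₀.trans inf_le_left) (hl₀.trans inf_le_left) (d.hg k.1) (d.hg l.1)
      obtain ⟨a', ha'⟩ := exists_diff (hk₀.trans inf_le_right) (hl₀.trans inf_le_right) (d'.hg k.2) (d'.hg l.2)
      have hck := congrArg (ares (G f) hk₀) (hc k)
      have hcl := congrArg (ares (G f) hl₀) (hc l)
      simp only [map_add, ares_ares, uel_res] at hck hcl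
      rw [ha, ha', hck, add_assoc, add_assoc, ← uel_mul, ← uel_mul] at hcl
      have hkey := uel_injective f V₀ (add_left_cancel hcl)
      have h1 := congrArg (res L hV) (d.compat k.1 l.1 V₀ (hk₀.trans inf_le_left) (hl₀.trans inf_le_left) a ha)
      have h2 := congrArg (res M hV)
        (d'.compat k.2 l.2 V₀ (hk₀.trans inf_le_right) (hl₀.trans inf_le_right) a' ha')
      rw [res_res, res_smul, res_res] at h1 h2
      rw [res_res, res_res] at hv
      have hva : v = rres hV (a : Γ(Z, f ⁻¹ᵁ V₀)) :=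
        (d.gen k.1).injective (hk.trans (f.preimage_mono inf_le_left)) (hv.symm.trans h1)
      rw [hva, res_smul, res_smul, res_res, res_res, h2, smul_smul, smul_smul]
      refine congrArg (· • _) ?_
      have h3 := congrArg (fun b : (Γ(Z, f ⁻¹ᵁ V₀))ˣ => rres hV (b : Γ(Z, f ⁻¹ᵁ V₀))) hkey
      simp only [Units.val_mul, Units.coe_map, map_mul, MonoidHom.coe_coe, RingHom.toMonoidHom_eq_coe,
        rres_rres] at h3
      linear_combination -h3)
  exact ⟨e⟩

end Datum

/-- Every section has a module. -/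
theorem exists_datum (s : (Q f).obj.obj (op (⊤ : Y.Opens))) : ∃ L : Z.Modules, Nonempty (Datum s L) := by
  choose W hW hyW g hg using fun y : Y =>
    sec_locally_surjective (gdSeq_shortExact (P f)) (U := (⊤ : Y.Opens)) (p := y) s trivial
  choose a ha using fun i j : Y =>
    exists_diff (V := W i ⊓ W j) inf_le_left inf_le_right (hg i) (hg j)
  have key : ∀ (i j : Y) (V : Y.Opens) (hi : V ≤ W i) (hj : V ≤ W j) (b : (Γ(Z, f ⁻¹ᵁ V))ˣ),
      ares (G f) hj (g j) = ares (G f) hi (g i) + uel f V b →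
        ures (f.preimage_mono (le_inf hi hj)) (a i j) = b := by
    intro i j V hi hj b hb
    have h := congrArg (ares (G f) (le_inf hi hj)) (ha i j)
    simp only [map_add, ares_ares, uel_res] at h
    exact (uel_injective f V (add_left_cancel (h.symm.trans hb)))
  let C : LineCoc.Cocycle Z :=
    { ι := Y
      W := fun i => f ⁻¹ᵁ W i
      a := fun i j => (a i j : Γ(Z, f ⁻¹ᵁ (W i ⊓ W j)))
      cover := fun z _ => Opens.mem_iSup.2 ⟨f z, hyW (f z)⟩
      self := fun i => by
        have h := key i i (W i ⊓ W i) inf_le_left inf_le_right 1 (by rw [uel_one, add_zero])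
        exact (congrArg Units.val ((Units.ext (Groth.Agent.QCoh.rres_self _ _)).symm.trans h)).trans rfl
      coc := fun i j k V h₁ h₂ h₃ => by
        let V₀ : Y.Opens := W i ⊓ W j ⊓ W k
        have hV : V ≤ f ⁻¹ᵁ V₀ := le_inf h₁ (h₂.trans inf_le_right)
        have hi : V₀ ≤ W i := inf_le_left.trans inf_le_left
        have hj : V₀ ≤ W j := inf_le_left.trans inf_le_right
        have hk : V₀ ≤ W k := inf_le_right
        obtain ⟨b, hb⟩ := exists_diff hi hj (hg i) (hg j)
        obtain ⟨b', hb'⟩ := exists_diff hj hk (hg j) (hg k)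
        have h3 := key i k V₀ hi hk (b * b') (by rw [uel_mul, ← add_assoc, ← hb, ← hb'])
        rw [← key i j V₀ hi hj b hb, ← key j k V₀ hj hk b' hb'] at h3
        have h4 := congrArg (fun b : (Γ(Z, f ⁻¹ᵁ V₀))ˣ => rres hV (b : Γ(Z, f ⁻¹ᵁ V₀))) h3
        simp only [Units.val_mul, Units.coe_map, map_mul, MonoidHom.coe_coe, RingHom.toMonoidHom_eq_coe,
          rres_rres] at h4
        exact h4.symm }
  refine ⟨LineCoc.mod C, ⟨{
    ι := Y
    W := W
    cover := fun y => ⟨y, hyW y⟩
    g := g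
    hg := hg
    e := LineCoc.gen C
    gen := LineCoc.isGen_gen C
    compat := fun i j V hi hj b hb => ?_ }⟩⟩
  have h := congrArg (res (LineCoc.mod C) (le_inf (f.preimage_mono hi) (f.preimage_mono hj)))
    (LineCoc.res_gen_eq C i j)
  rw [res_smul, res_res, res_res] at h
  refine h.trans (congrArg (· • _) ?_)
  exact congrArg Units.val (key i j V hi hj b hb)

end Groth.Agent.PicUnits
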