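import Groth.Agent.UnitsThick.PicDatum
import Groth.Agent.InvOfTensor
import Groth.Prelude.Def_PicGrp

/-!
# `H¹(Y, f_* O_Z^×) → Pic Z`

`psi f` is additive and injective, surjective when invertible modules on `Z` are trivial over a cover of `Y`;
`psi_map`: compatibility with pullback.
-/

set_option autoImplicit false
set_option backward.isDefEq.respectTransparency false
set_option backward.isDefEq.respectTransparency.types false

universe u

open CategoryTheory CategoryTheory.Limits AlgebraicGeometry Opposite TopologicalSpace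

noncomputable section

namespace Groth.Agent.PicUnits

open Groth.Agent.QCoh (rres rres_rres res res_res res_smul)
open Groth.Agent.Props.GenLocus (IsGen)
open Groth.Agent.Props.GenPull (pb isGen_pb)
open Groth.Agent.UnitsThick (P val val_injective)
open Groth.Agent.CohAff (gd qt sec gdMap gqMap gdδ sec_res sec_f_injective sec_g_f gdSeq gdSeq_shortExact)

variable {Z Y : Scheme.{u}} (f : Z ⟶ Y)

/-- `H⁰ = Γ` for the quotient. -/
abbrev eq₀ : Sheaf.H (Q f) 0 ≃+ (Q f).obj.obj (op (⊤ : Y.Opens)) := Sheaf.H.equiv₀ (Q f) isTerminalTop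

/-- The class of a global section of the quotient. -/
def cl : (Q f).obj.obj (op (⊤ : Y.Opens)) →+ Sheaf.H (P f) 1 := (gdδ (P f)).comp (eq₀ f).symm.toAddMonoidHom

lemma exists_cl_eq (c : Sheaf.H (P f) 1) : ∃ s, cl f s = c := by
  obtain ⟨y, hy⟩ := Groth.Agent.CohAff.exists_gdδ_eq (P f) c
  exact ⟨eq₀ f y, (congrArg (gdδ (P f)) ((eq₀ f).symm_apply_apply y)).trans hy⟩

lemma cl_π (w : (G f).obj.obj (op (⊤ : Y.Opens))) : cl f (sec (π f) ⊤ w) = 0 := by
  refine (congrArg (gdδ (P f)) ?_).trans (Groth.Agent.CohAff.gdδ_map_g (P f)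
    ((Sheaf.H.equiv₀ (G f) isTerminalTop).symm w))
  exact (Sheaf.H.equiv₀_symm_naturality isTerminalTop (π f) w).symm

lemma cl_eq_zero {s : (Q f).obj.obj (op (⊤ : Y.Opens))} (h : cl f s = 0) : ∃ w, sec (π f) ⊤ w = s := by
  obtain ⟨x, hx⟩ := Groth.Agent.CohAff.exists_map_eq_of_gdδ_eq_zero (P f) h
  refine ⟨Sheaf.H.equiv₀ (G f) isTerminalTop x, ?_⟩
  exact ((Sheaf.H.equiv₀_naturality isTerminalTop (π f) x).trans (congrArg _ hx)).trans
    ((eq₀ f).apply_symm_apply s)

variable {f}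

lemma sec_π_uel {V : Y.Opens} (a : (Γ(Z, f ⁻¹ᵁ V))ˣ) : sec (π f) V (uel f V a) = 0 :=
  sec_g_f (S := gdSeq (P f)) V (uP f V a)

/-- Glue sections of a sheaf on `Y`. -/
theorem exists_glue (F : CohTop.Ab Y.toTopCat) {κ : Type u} (W : κ → Y.Opens) (hW : ∀ y, ∃ i, y ∈ W i)
    (g : ∀ i, F.obj.obj (op (W i)))
    (h : ∀ i j, ares F (inf_le_left : W i ⊓ W j ≤ W i) (g i) = ares F inf_le_right (g j)) :
    ∃ w : F.obj.obj (op (⊤ : Y.Opens)), ∀ i, ares F le_top w = g i := by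
  obtain ⟨w, hw, -⟩ := TopCat.Sheaf.existsUnique_gluing' F W ⊤ (fun i => homOfLE le_top)
    (fun y _ => Opens.mem_iSup.2 (hW y)) g h
  exact ⟨w, hw⟩

theorem eq_of_cover (F : CohTop.Ab Y.toTopCat) {κ : Type u} (W : κ → Y.Opens) (hW : ∀ y, ∃ i, y ∈ W i)
    {a b : F.obj.obj (op (⊤ : Y.Opens))} (h : ∀ i, ares F (le_top : W i ≤ ⊤) a = ares F le_top b) : a = b :=
  TopCat.Sheaf.eq_of_locally_eq' F W ⊤ (fun i => homOfLE le_top) (fun y _ => Opens.mem_iSup.2 (hW y)) a b h

variable (f)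

/-- The chosen section of a class. -/
def secOf (c : Sheaf.H (P f) 1) : (Q f).obj.obj (op (⊤ : Y.Opens)) := (exists_cl_eq f c).choose

lemma cl_secOf (c : Sheaf.H (P f) 1) : cl f (secOf f c) = c := (exists_cl_eq f c).choose_spec

/-- The chosen module of a class. -/
def modOf (c : Sheaf.H (P f) 1) : Z.Modules := (exists_datum (secOf f c)).choose

/-- The chosen datum. -/
def datOf (c : Sheaf.H (P f) 1) : Datum (secOf f c) (modOf f c) := (exists_datum (secOf f c)).choose_spec.some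

/-- The invertible class of a cohomology class. -/
def psiFun (c : Sheaf.H (P f) 1) : PicLoc.PicSet Z := PicGrp.cls (modOf f c) (datOf f c).isInvertible

theorem psiFun_eq {s : (Q f).obj.obj (op (⊤ : Y.Opens))} {L : Z.Modules} (d : Datum s L) :
    psiFun f (cl f s) = PicGrp.cls L d.isInvertible := by
  have h : cl f (s - secOf f (cl f s)) = 0 := by rw [map_sub, cl_secOf, sub_self]
  obtain ⟨w, hw⟩ := cl_eq_zero f h
  have e : secOf f (cl f s) + sec (π f) ⊤ w = s := by rw [hw, add_sub_cancel]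
  let d' := (datOf f (cl f s)).shift w
  rw [e] at d'
  exact (PicGrp.cls_eq_cls_iff _ _).2 (d'.nonempty_iso d)

/-- `H¹(Y, f_* O_Z^×) → Pic Z`. -/
def psi [PicGrp.Law Z] : Sheaf.H (P f) 1 →+ Additive (PicLoc.PicSet Z) :=
  AddMonoidHom.mk' (fun c => Additive.ofMul (psiFun f c)) fun c c' => by
    refine congrArg Additive.ofMul ?_
    conv_lhs => rw [← cl_secOf f c, ← cl_secOf f c', ← map_add]
    rw [psiFun_eq f ((datOf f c).mul (datOf f c'))]
    exact Subtype.ext (PicGrp.cls_mul_cls_val (datOf f c).isInvertible (datOf f c').isInvertible).symm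

lemma psi_apply [PicGrp.Law Z] (c : Sheaf.H (P f) 1) : (psi f c).toMul = psiFun f c := rfl

/-- A class with trivial module vanishes. -/
theorem eq_zero_of_iso {s : (Q f).obj.obj (op (⊤ : Y.Opens))} {L : Z.Modules} (d : Datum s L)
    (φ : L ≅ Coh.structureModule Z) : cl f s = 0 := by
  let e' : ∀ i, Γ(Z, f ⁻¹ᵁ d.W i) := fun i => φ.hom.app (f ⁻¹ᵁ d.W i) (d.e i)
  have hu : ∀ i, IsUnit (e' i) := fun i => by
    have hg := InvOfTensor.isGen_of_iso φ.hom (d.gen i)
    obtain ⟨b, hb⟩ := (hg _ le_rfl).2 (1 : Γ(Z, f ⁻¹ᵁ d.W i))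
    exact isUnit_iff_exists_inv'.2 ⟨b, (congrArg (b * ·) (Groth.Agent.QCoh.rres_self le_rfl (e' i)).symm).trans hb⟩
  let u := fun i => (hu i).unit
  have hrel : ∀ i j, ∀ a, ares (G f) (inf_le_right : d.W i ⊓ d.W j ≤ d.W j) (d.g j) =
      ares (G f) (inf_le_left : d.W i ⊓ d.W j ≤ d.W i) (d.g i) + uel f _ a →
      ures (f.preimage_mono inf_le_right) (u j) = a * ures (f.preimage_mono inf_le_left) (u i) := by
    intro i j a ha
    have h := congrArg (φ.hom.app _) (d.compat i j _ inf_le_left inf_le_right a ha)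
    rw [Scheme.Modules.Hom.app_smul, Groth.Agent.QCoh.app_res, Groth.Agent.QCoh.app_res] at h
    exact Units.ext h
  obtain ⟨w, hw⟩ := exists_glue (G f) d.W d.cover (fun i => d.g i - uel f _ (u i)) fun i j => by
    obtain ⟨a, ha⟩ := exists_diff (inf_le_left : d.W i ⊓ d.W j ≤ d.W i) inf_le_right (d.hg i) (d.hg j)
    rw [map_sub, map_sub, ha, uel_res, uel_res, hrel i j a ha, uel_mul]
    abel
  have : sec (π f) ⊤ w = s := eq_of_cover (Q f) d.W d.cover fun i => by
    rw [sec_res, hw, map_sub, sec_π_uel, sub_zero, d.hg]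
  rw [← this, cl_π]

theorem psi_injective [PicGrp.Law Z] : Function.Injective (psi f) := by
  refine (injective_iff_map_eq_zero _).2 fun c hc => ?_
  have h : psiFun f c = 1 := congrArg Additive.toMul hc
  obtain ⟨φ⟩ := (PicGrp.cls_eq_one_iff (datOf f c).isInvertible).1 h
  exact (cl_secOf f c).symm.trans (eq_zero_of_iso f (datOf f c) φ)

/-- Modules trivial over a cover of `Y` come from classes. -/
theorem exists_psiFun_eq {L : Z.Modules} (hL : PicF.IsInvertible L)
    (htriv : ∀ y : Y, ∃ W : Y.Opens, y ∈ W ∧ ∃ e : Γ(L, f ⁻¹ᵁ W), IsGen L (f ⁻¹ᵁ W) e) :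
    ∃ c, psiFun f c = PicGrp.cls L hL := by
  choose W hyW e he using htriv
  have hex : ∀ (i j : Y) (V : Y.Opens) (hi : V ≤ W i) (hj : V ≤ W j), ∃ a : (Γ(Z, f ⁻¹ᵁ V))ˣ,
      res L (f.preimage_mono hj) (e j) = (a : Γ(Z, f ⁻¹ᵁ V)) • res L (f.preimage_mono hi) (e i) := by
    intro i j V hi hj
    obtain ⟨a, ha, -⟩ := (he i).exists_eq (f.preimage_mono hi) (res L (f.preimage_mono hj) (e j))
    obtain ⟨b, hb, -⟩ := (he j).exists_eq (f.preimage_mono hj) (res L (f.preimage_mono hi) (e i))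
    refine ⟨⟨a, b, ?_, ?_⟩, ha⟩
    · refine (he i).injective (f.preimage_mono hi) (Eq.trans ?_ (one_smul _ _).symm)
      rw [mul_comm, mul_smul, ← ha, ← hb]
    · refine (he j).injective (f.preimage_mono hj) (Eq.trans ?_ (one_smul _ _).symm)
      rw [mul_comm, mul_smul, ← hb, ← ha]
  choose a ha using hex
  have huniq : ∀ (i j : Y) (V : Y.Opens) (hi : V ≤ W i) (hj : V ≤ W j) (b : (Γ(Z, f ⁻¹ᵁ V))ˣ),
      res L (f.preimage_mono hj) (e j) = (b : Γ(Z, f ⁻¹ᵁ V)) • res L (f.preimage_mono hi) (e i) →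
        a i j V hi hj = b := fun i j V hi hj b hb =>
    Units.ext ((he i).injective (f.preimage_mono hi) ((ha i j V hi hj).symm.trans hb))
  let gv : ∀ (i : Y) (V : Y.Opens) (hi : V ≤ W i) (p : Y), p ∈ V → TopCat.Presheaf.stalk (C := AddCommGrpCat.{u}) (X := Y.toTopCat) (P f).obj p := fun i V hi p hp =>
    (TopCat.Presheaf.germ (C := AddCommGrpCat.{u}) (X := Y.toTopCat) (P f).obj (W p ⊓ V) p ⟨hyW p, hp⟩).hom (uP f _ (a p i _ inf_le_left (inf_le_right.trans hi)))
  let g : ∀ i, (G f).obj.obj (op (W i)) := fun i (p : W i) => gv i (W i) le_rfl p.1 p.2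
  have hg : ∀ i j, ares (G f) (inf_le_right : W i ⊓ W j ≤ W j) (g j) =
      ares (G f) (inf_le_left : W i ⊓ W j ≤ W i) (g i) +
        uel f _ (a i j (W i ⊓ W j) inf_le_left inf_le_right) := by
    intro i j
    funext q
    obtain ⟨p, hp⟩ := q
    let V : Y.Opens := W p ⊓ W i ⊓ W j
    have hpV : p ∈ V := ⟨⟨hyW p, hp.1⟩, hp.2⟩
    have key : ∀ {U : Y.Opens} (hU : V ≤ U) (hpU : p ∈ U) (x : (Γ(Z, f ⁻¹ᵁ U))ˣ),
        (TopCat.Presheaf.germ (C := AddCommGrpCat.{u}) (X := Y.toTopCat) (P f).obj U p hpU).hom (uP f U x) =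
          (TopCat.Presheaf.germ (C := AddCommGrpCat.{u}) (X := Y.toTopCat) (P f).obj V p hpV).hom (uP f V (ures (f.preimage_mono hU) x)) := fun hU hpU x =>
      (TopCat.Presheaf.germ_res_apply (C := AddCommGrpCat.{u}) (X := Y.toTopCat) (P f).obj (homOfLE hU) p hpV (uP f _ x)).symm
    have hres : ∀ (k l : Y) {U : Y.Opens} (hk : U ≤ W k) (hl : U ≤ W l) (hU : V ≤ U),
        ures (f.preimage_mono hU) (a k l U hk hl) = a k l V (hU.trans hk) (hU.trans hl) := fun k l U hk hl hU => by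
      refine (huniq k l V _ _ _ ?_).symm
      have h := congrArg (res L (f.preimage_mono hU)) (ha k l U hk hl)
      rw [res_smul, res_res, res_res] at h
      exact h
    change (TopCat.Presheaf.germ (C := AddCommGrpCat.{u}) (X := Y.toTopCat) (P f).obj (W p ⊓ W j) p _).hom _ = (TopCat.Presheaf.germ (C := AddCommGrpCat.{u}) (X := Y.toTopCat) (P f).obj (W p ⊓ W i) p _).hom _ +
      (TopCat.Presheaf.germ (C := AddCommGrpCat.{u}) (X := Y.toTopCat) (P f).obj (W i ⊓ W j) p _).hom _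
    rw [key (le_inf (inf_le_left.trans inf_le_left) inf_le_right) _,
      key (inf_le_left : V ≤ W p ⊓ W i) _,
      key (le_inf (inf_le_left.trans inf_le_right) inf_le_right : V ≤ W i ⊓ W j) _,
      hres, hres, hres, ← map_add, ← uP_mul]
    refine congrArg (fun x => (TopCat.Presheaf.germ (C := AddCommGrpCat.{u}) (X := Y.toTopCat) (P f).obj V p hpV).hom (uP f V x)) (huniq p j V _ _ _ ?_)
    rw [Units.val_mul, ha i j V, ha p i V, smul_smul, mul_comm]
    all_goals first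
      | exact le_inf (inf_le_left.trans inf_le_left) inf_le_right
      | exact inf_le_left
      | exact le_inf (inf_le_left.trans inf_le_right) inf_le_right
  obtain ⟨s, hs⟩ := exists_glue (Q f) W (fun y => ⟨y, hyW y⟩) (fun i => sec (π f) (W i) (g i)) fun i j => by
    rw [sec_res, sec_res, hg i j, map_add, sec_π_uel, add_zero]
  let d : Datum s L :=
    { ι := Y
      W := W
      cover := fun y => ⟨y, hyW y⟩
      g := g
      hg := fun i => (hs i).symm
      e := e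
      gen := he
      compat := fun i j V hi hj b hb => by
        have h := congrArg (ares (G f) (le_inf hi hj)) (hg i j)
        simp only [map_add, ares_ares, uel_res] at h
        have h1 := uel_injective f V (add_left_cancel (h.symm.trans hb))
        have h2 := congrArg (res L (f.preimage_mono (le_inf hi hj))) (ha i j (W i ⊓ W j) inf_le_left inf_le_right)
        rw [res_smul, res_res, res_res] at h2
        rw [← h1]
        exact h2 }
  exact ⟨cl f s, psiFun_eq f d⟩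

theorem psi_surjective [PicGrp.Law Z]
    (htriv : ∀ L : Z.Modules, PicF.IsInvertible L → ∀ y : Y, ∃ W : Y.Opens, y ∈ W ∧
      ∃ e : Γ(L, f ⁻¹ᵁ W), IsGen L (f ⁻¹ᵁ W) e) : Function.Surjective (psi f) := by
  intro x
  obtain ⟨L, hL, h⟩ := PicGrp.exists_eq_cls (Additive.toMul x)
  obtain ⟨c, hc⟩ := exists_psiFun_eq f hL (htriv L hL)
  exact ⟨c, congrArg Additive.ofMul (hc.trans h.symm)⟩

/-- Invertible modules are trivial over a cover of the target of a closed immersion. -/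
theorem htriv_of_isEmbedding (hf : Topology.IsEmbedding f.base) (hfc : IsClosed (Set.range f.base))
    (L : Z.Modules) (hL : PicF.IsInvertible L) (y : Y) :
    ∃ W : Y.Opens, y ∈ W ∧ ∃ e : Γ(L, f ⁻¹ᵁ W), IsGen L (f ⁻¹ᵁ W) e := by
  by_cases hy : y ∈ Set.range f.base
  · obtain ⟨z, rfl⟩ := hy
    obtain ⟨U, e, hzU, he⟩ := Props.GenLocus.exists_isGen hL z
    obtain ⟨T, hT, hTU⟩ := hf.isInducing.isOpen_iff.mp U.2
    have hle : f ⁻¹ᵁ (⟨T, hT⟩ : Y.Opens) = U := TopologicalSpace.Opens.ext hTU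
    exact ⟨⟨T, hT⟩, (Set.ext_iff.mp hTU z).mpr hzU, res L hle.le e, he.restrict hle.le⟩
  · refine ⟨⟨(Set.range f.base)ᶜ, hfc.isOpen_compl⟩, hy, 0, fun V hV => ?_⟩
    have hbot : V = ⊥ := le_bot_iff.mp fun z hz => (hV hz ⟨z, rfl⟩).elim
    subst hbot
    haveI : Subsingleton Γ(Z, ⊥) := CommRingCat.subsingleton_of_isTerminal (Z.sheaf.isTerminalOfEqEmpty rfl)
    haveI : Subsingleton Γ(L, (⊥ : Z.Opens)) := Module.subsingleton Γ(Z, ⊥) _
    exact ⟨fun a b _ => Subsingleton.elim a b, fun m => ⟨0, Subsingleton.elim _ _⟩⟩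

/-- Pullback of a datum along `i`, computed on the same space. -/
def Datum.pull {X : Scheme.{u}} (i : Z ⟶ X) (ψ : P (𝟙 X) ⟶ P i)
    (hψ : ∀ (V : X.Opens) (a : (Γ(X, (𝟙 X) ⁻¹ᵁ V))ˣ),
      sec ψ V (uP (𝟙 X) V a) = uP i V (Units.map (i.app V).hom.toMonoidHom a))
    {s : (Q (𝟙 X)).obj.obj (op (⊤ : X.Opens))} {L : X.Modules} (d : Datum s L) :
    Datum (f := i) (sec (gqMap ψ) ⊤ s) ((Scheme.Modules.pullback i).obj L) where
  ι := d.ι
  W := d.W
  cover := d.cover
  g k := sec (gdMap ψ) (d.W k) (d.g k)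
  hg k := by
    refine (congrArg (fun φ : G (𝟙 X) ⟶ Q i => sec φ (d.W k) (d.g k))
      (Groth.Agent.CohAff.gπ_naturality ψ)).trans ?_
    change sec (gqMap ψ) _ (sec (π (𝟙 X)) _ (d.g k)) = _
    rw [d.hg, sec_res]
  e k := pb i (d.e k)
  gen k := isGen_pb i (d.gen k)
  compat k l V hk hl b hb := by
    obtain ⟨a, ha⟩ := exists_diff hk hl (d.hg k) (d.hg l)
    have h1 := congrArg (sec (gdMap ψ) V) ha
    rw [map_add, ← sec_res, ← sec_res] at h1
    have h2 : sec (gdMap ψ) V (uel (𝟙 X) V a) = uel i V (Units.map (i.app V).hom.toMonoidHom a) := by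
      rw [uel, uel, ← hψ]
      exact (congrArg (fun φ : P (𝟙 X) ⟶ G i => sec φ V (uP (𝟙 X) V a))
        (Groth.Agent.CohAff.η_naturality ψ)).symm
    rw [h2] at h1
    have h3 := uel_injective i V (add_left_cancel (h1.symm.trans hb))
    have h4 := congrArg (LFFrame.unitSec i L V) (d.compat k l V hk hl a ha)
    erw [LFFrame.unitSec_smul, LFFrame.unitSec_res, LFFrame.unitSec_res] at h4
    rw [← h3]
    exact h4

theorem psiFun_map {X : Scheme.{u}} (i : Z ⟶ X) (ψ : P (𝟙 X) ⟶ P i)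
    (hψ : ∀ (V : X.Opens) (a : (Γ(X, (𝟙 X) ⁻¹ᵁ V))ˣ),
      sec ψ V (uP (𝟙 X) V a) = uP i V (Units.map (i.app V).hom.toMonoidHom a))
    (c : Sheaf.H (P (𝟙 X)) 1) :
    (psiFun i (Sheaf.H.map ψ 1 c)).1 = PicF.pullCl i (psiFun (𝟙 X) c).1 := by
  have h : Sheaf.H.map ψ 1 c = cl i (sec (gqMap ψ) ⊤ (secOf (𝟙 X) c)) := by
    conv_lhs => rw [← cl_secOf (𝟙 X) c]
    refine (Groth.Agent.CohAff.gdδ_naturality ψ _).trans (congrArg (gdδ (P i)) ?_)
    exact Sheaf.H.equiv₀_symm_naturality isTerminalTop (gqMap ψ) _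
  rw [h, psiFun_eq i ((datOf (𝟙 X) c).pull i ψ hψ)]
  rfl

end Groth.Agent.PicUnits
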